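import Cfsg.Agent.Lib.PGroup.AltAut
import Mathlib.GroupTheory.SpecificGroups.Alternating

/-!
# Facts about `A_5` and its four-subgroups
-/

set_option autoImplicit false
set_option maxRecDepth 10000
set_option synthInstance.maxSize 4000
set_option linter.style.haveILetI false

namespace CfsgLib.Involution.WeakClosureJ1

open Equiv Equiv.Perm

local notation "S5" => Perm (Fin 5)
local notation "A5" => alternatingGroup (Fin 5)

theorem five_eight : ∀ x : S5, sign x = 1 → x * x * (x * x) = 1 → x * x = 1 := by decide +kernel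

theorem four_cycle : ∀ a : S5, sign a = 1 → a * a = 1 → a ≠ 1 → ∀ b : S5, sign b = 1 → b * b = 1 →
    b ≠ 1 → a * b = b * a → a ≠ b → ∃ c : S5, sign c = 1 ∧ c * a * c⁻¹ = b ∧ c * b * c⁻¹ = a * b := by
  decide +kernel

theorem four_self : ∀ a : S5, sign a = 1 → a * a = 1 → a ≠ 1 → ∀ b : S5, sign b = 1 → b * b = 1 →
    b ≠ 1 → a * b = b * a → a ≠ b → ∀ σ : S5, σ * a = a * σ → σ * b = b * σ →
      σ = 1 ∨ σ = a ∨ σ = b ∨ σ = a * b := by
  decide +kernel

theorem center_eq : ∀ z : A5, (∀ x : A5, z * x = x * z) → z = 1 := by decide +kernel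

theorem exists_involution : ∃ x : A5, x * x = 1 ∧ x ≠ 1 := by decide +kernel

theorem simple : IsSimpleGroup A5 := alternatingGroup.isSimpleGroup (by simp)

theorem commutator_top : commutator A5 = ⊤ := by
  haveI := simple
  rcases IsSimpleGroup.eq_bot_or_eq_top_of_normal (commutator A5) inferInstance with h | h
  · exfalso
    obtain ⟨x, -, hx⟩ := exists_involution
    refine hx (center_eq x fun y => commutatorElement_eq_one_iff_mul_comm.1 (Subgroup.mem_bot.1 ?_))
    rw [← h, commutator_def]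
    exact Subgroup.commutator_mem_commutator (Subgroup.mem_top x) (Subgroup.mem_top y)
  · exact h

/-- An automorphism fixing a four-group pointwise is conjugation by one of its elements. -/
theorem aut_four (φ : MulAut A5) {a b : A5} (ha : a * a = 1) (ha1 : a ≠ 1) (hb : b * b = 1)
    (hb1 : b ≠ 1) (hab : a * b = b * a) (hne : a ≠ b) (h1 : φ a = a) (h2 : φ b = b) :
    ∃ w : A5, (w = 1 ∨ w = a ∨ w = b ∨ w = a * b) ∧ ∀ x, φ x = w * x * w⁻¹ := by
  obtain ⟨σ, hσ⟩ := CfsgLib.PGroup.AltAut.exists_conjNormal 5 (by norm_num) φ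
    (fun u hu => Cfsg.Agent.S2119.map_threeCycle (by norm_num) (by norm_num) φ hu)
  have hc : ∀ x : A5, φ x = x → σ * x = x * σ := fun x hx => by
    have := congrArg (fun f : MulAut A5 => ((f x : A5) : S5)) hσ
    simp only [MulAut.conjNormal_apply, hx] at this
    exact mul_inv_eq_iff_eq_mul.1 this
  have hfour := four_self a a.2 (congrArg Subtype.val ha) (fun e => ha1 (Subtype.ext e)) b b.2
    (congrArg Subtype.val hb) (fun e => hb1 (Subtype.ext e)) (congrArg Subtype.val hab)
    (fun e => hne (Subtype.ext e)) σ (hc a h1) (hc b h2)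
  have hval : ∀ w : A5, (w : S5) = σ → ∀ x, φ x = w * x * w⁻¹ := fun w hw x => Subtype.ext (by
    rw [← hσ, MulAut.conjNormal_apply, ← hw]; rfl)
  rcases hfour with h | h | h | h
  · exact ⟨1, .inl rfl, hval 1 h.symm⟩
  · exact ⟨a, .inr (.inl rfl), hval a h.symm⟩
  · exact ⟨b, .inr (.inr (.inl rfl)), hval b h.symm⟩
  · exact ⟨a * b, .inr (.inr (.inr rfl)), hval (a * b) h.symm⟩

end CfsgLib.Involution.WeakClosureJ1
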