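import Cfsg.Agent.Lib.Involution.WeakClosureJ1.A5
import Cfsg.Agent.Lib.Fusion.Basic
import Cfsg.Agent.Lib.Involution.Basic
import Cfsg.Prelude.Def_TwoFusion
import Mathlib.GroupTheory.SpecificGroups.Cyclic
import Mathlib.Data.ZMod.Basic
import Mathlib.Tactic.Group

/-!
# Weak closure `2 × A_5` of a two-central involution: the Sylow piece
-/

set_option autoImplicit false
set_option linter.style.haveILetI false
set_option linter.unusedSectionVars false

namespace CfsgLib.Involution.WeakClosureJ1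

open Subgroup
open scoped commutatorElement

universe u

variable {G : Type u} [Group G]

/-- The weak closure of `t` in its centraliser. -/
def wcl (t : G) : Subgroup G := closure {x | ∃ g : G, x = g * t * g⁻¹ ∧ x * t = t * x}

/-- Its derived subgroup. -/
def alt (t : G) : Subgroup G := ⁅wcl t, wcl t⁆

/-- The kernel of the action of the centraliser on `alt t`. -/
def ker (t : G) : Subgroup G := centralizer ({t} : Set G) ⊓ centralizer (alt t : Set G)

theorem mem_wcl_of {t x : G} (h : IsConj t x) (hc : x * t = t * x) : x ∈ wcl t := by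
  obtain ⟨g, rfl⟩ := isConj_iff.1 h
  exact subset_closure ⟨g, rfl, hc⟩

theorem self_mem_wcl (t : G) : t ∈ wcl t := mem_wcl_of (IsConj.refl t) rfl

theorem wcl_le (t : G) : wcl t ≤ centralizer ({t} : Set G) :=
  (closure_le _).2 (by
    rintro x ⟨g, -, hc⟩
    exact mem_centralizer_singleton_iff.2 hc)

theorem comm_wcl {t x : G} (hx : x ∈ wcl t) : x * t = t * x :=
  mem_centralizer_singleton_iff.1 (wcl_le t hx)

theorem conj_mem_wcl (g : G) {t x : G} (hx : x ∈ wcl t) :
    g * x * g⁻¹ ∈ wcl (g * t * g⁻¹) := by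
  have h : (wcl t).map (MulAut.conj g).toMonoidHom ≤ wcl (g * t * g⁻¹) := by
    rw [wcl, MonoidHom.map_closure, closure_le]
    rintro _ ⟨y, ⟨k, rfl, hc⟩, rfl⟩
    refine subset_closure ⟨g * k * g⁻¹, ?_, ?_⟩
    · simp only [MulEquiv.coe_toMonoidHom, MulAut.conj_apply]; group
    · simp only [MulEquiv.coe_toMonoidHom, MulAut.conj_apply]
      calc g * (k * t * k⁻¹) * g⁻¹ * (g * t * g⁻¹) = g * (k * t * k⁻¹ * t) * g⁻¹ := by group
        _ = g * (t * (k * t * k⁻¹)) * g⁻¹ := by rw [hc]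
        _ = g * t * g⁻¹ * (g * (k * t * k⁻¹) * g⁻¹) := by group
  exact h ⟨x, hx, rfl⟩

theorem map_wcl_le (g t : G) : (wcl t).map (MulAut.conj g).toMonoidHom ≤ wcl (g * t * g⁻¹) := by
  rintro _ ⟨x, hx, rfl⟩
  exact conj_mem_wcl g hx

theorem conj_mem_alt (g : G) {t x : G} (hx : x ∈ alt t) :
    g * x * g⁻¹ ∈ alt (g * t * g⁻¹) := by
  have h : (alt t).map (MulAut.conj g).toMonoidHom ≤ alt (g * t * g⁻¹) := by
    rw [alt, map_commutator]
    exact commutator_mono (map_wcl_le g t) (map_wcl_le g t)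
  exact h ⟨x, hx, rfl⟩

theorem conj_mem_ker (g : G) {t x : G} (hx : x ∈ ker t) :
    g * x * g⁻¹ ∈ ker (g * t * g⁻¹) := by
  obtain ⟨h1, h2⟩ := mem_inf.1 hx
  refine mem_inf.2 ⟨mem_centralizer_singleton_iff.2 ?_, mem_centralizer_iff.2 fun y hy => ?_⟩
  · calc g * x * g⁻¹ * (g * t * g⁻¹) = g * (x * t) * g⁻¹ := by group
      _ = g * (t * x) * g⁻¹ := by rw [mem_centralizer_singleton_iff.1 h1]
      _ = g * t * g⁻¹ * (g * x * g⁻¹) := by group
  · have hy' : g⁻¹ * y * g ∈ alt t := by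
      have := conj_mem_alt g⁻¹ hy
      rwa [show g⁻¹ * (g * t * g⁻¹) * g⁻¹⁻¹ = t by group, inv_inv] at this
    calc y * (g * x * g⁻¹) = g * (g⁻¹ * y * g * x) * g⁻¹ := by group
      _ = g * (x * (g⁻¹ * y * g)) * g⁻¹ := by rw [mem_centralizer_iff.1 h2 _ hy']
      _ = g * x * g⁻¹ * y := by group

theorem conj_fix {t c : G} (hc : c * t = t * c) : c * t * c⁻¹ = t := by
  rw [hc, mul_inv_cancel_right]

/-- The hypothesis. -/
structure Hyp (t : G) (S : Sylow 2 G) : Prop where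
  tt : t * t = 1
  t1 : t ≠ 1
  tS : t ∈ (S : Subgroup G)
  Sc : (S : Subgroup G) ≤ centralizer ({t} : Set G)
  iso : Nonempty (wcl t ≃* Multiplicative (ZMod 2) × alternatingGroup (Fin 5))

namespace Hyp

variable {t : G} {S : Sylow 2 G} (h : Hyp t S)
include h

theorem exists_model : ∃ f : alternatingGroup (Fin 5) →* G, Function.Injective f ∧ f.range = alt t ∧
    t ∉ f.range ∧ ∀ w : G, w ∈ wcl t ↔ w ∈ f.range ∨ t * w ∈ f.range := by
  obtain ⟨e⟩ := h.iso
  set T := e ⟨t, self_mem_wcl t⟩ with hT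
  have hT1 : T ≠ 1 := fun e' => h.t1 (congrArg Subtype.val
    (e.injective (e'.trans (map_one e).symm) : (⟨t, self_mem_wcl t⟩ : wcl t) = 1))
  have hTc : ∀ q, T * q = q * T := fun q => by
    obtain ⟨w, rfl⟩ := e.surjective q
    rw [hT, ← map_mul, ← map_mul]
    exact congrArg e (Subtype.ext (comm_wcl w.2).symm)
  have hT2 : T.2 = 1 := center_eq _ fun x => congrArg Prod.snd (hTc (1, x))
  have hTfst : ∀ a : Multiplicative (ZMod 2), a = 1 ∨ a = T.1 := by
    have h1 : T.1 ≠ 1 := fun e' => hT1 (Prod.ext e' hT2)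
    revert h1
    generalize T.1 = c
    revert c
    decide
  let f : alternatingGroup (Fin 5) →* G := (wcl t).subtype.comp (e.symm.toMonoidHom.comp (MonoidHom.inr _ _))
  have hval : ∀ x, f x = ((e.symm (1, x) : wcl t) : G) := fun x => rfl
  have hinj : Function.Injective f := fun a b hab => by
    have := e.symm.injective (Subtype.ext hab : e.symm (1, a) = e.symm (1, b))
    exact congrArg Prod.snd this
  have hmem : ∀ (w : G) (hw : w ∈ wcl t), w ∈ f.range ↔ (e ⟨w, hw⟩).1 = 1 := by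
    intro w hw
    constructor
    · rintro ⟨x, hx⟩
      rw [show (⟨w, hw⟩ : wcl t) = e.symm (1, x) from Subtype.ext hx.symm, e.apply_symm_apply]
    · intro h1
      have h2 : e.symm (1, (e ⟨w, hw⟩).2) = ⟨w, hw⟩ := e.symm_apply_eq.2 (Prod.ext h1.symm rfl)
      exact ⟨(e ⟨w, hw⟩).2, congrArg (fun z : wcl t => (z : G)) h2⟩
  have hle : f.range ≤ wcl t := by
    rintro _ ⟨x, rfl⟩; exact (e.symm (1, x)).2
  have halt : f.range = alt t := by
    refine le_antisymm ?_ (commutator_le.2 fun a ha b hb => ?_)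
    · have h1 : f.range = ⁅f.range, f.range⁆ := by
        conv_lhs => rw [MonoidHom.range_eq_map, ← commutator_top, _root_.commutator_def, map_commutator]
        rw [MonoidHom.range_eq_map]
      rw [h1]
      exact commutator_mono hle hle
    · have hab : ⁅a, b⁆ ∈ wcl t := by
        rw [commutatorElement_def]
        exact mul_mem (mul_mem (mul_mem ha hb) (inv_mem ha)) (inv_mem hb)
      rw [hmem _ hab, show (⟨⁅a, b⁆, hab⟩ : wcl t) = ⁅(⟨a, ha⟩ : wcl t), ⟨b, hb⟩⁆ from rfl,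
        map_commutatorElement]
      show ⁅(e ⟨a, ha⟩).1, (e ⟨b, hb⟩).1⁆ = 1
      exact commutatorElement_eq_one_iff_mul_comm.2 (mul_comm _ _)
  have htn : t ∉ f.range := fun hm => by
    rw [hmem t (self_mem_wcl t)] at hm
    exact hT1 (Prod.ext hm hT2)
  refine ⟨f, hinj, halt, htn, fun w => ⟨fun hw => ?_, ?_⟩⟩
  · rcases hTfst (e ⟨w, hw⟩).1 with h1 | h1
    · exact Or.inl ((hmem w hw).2 h1)
    · refine Or.inr ((hmem _ (mul_mem (self_mem_wcl t) hw)).2 ?_)
      rw [show (⟨t * w, mul_mem (self_mem_wcl t) hw⟩ : wcl t) = ⟨t, self_mem_wcl t⟩ * ⟨w, hw⟩ from rfl,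
        map_mul, Prod.fst_mul, h1]
      have : ∀ a : Multiplicative (ZMod 2), a * a = 1 := by decide
      exact this _
  · rintro (hw | hw)
    · exact hle hw
    · have := mul_mem (self_mem_wcl t) (hle hw)
      rwa [← mul_assoc, h.tt, one_mul] at this

theorem alt_le : alt t ≤ wcl t := by
  obtain ⟨f, -, hr, -, hw⟩ := h.exists_model
  exact fun x hx => (hw x).2 (Or.inl (hr ▸ hx))

theorem t_notin : t ∉ alt t := by
  obtain ⟨f, -, hr, ht, -⟩ := h.exists_model
  rwa [← hr]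

theorem split {w : G} (hw : w ∈ wcl t) : w ∈ alt t ∨ t * w ∈ alt t := by
  obtain ⟨f, -, hr, -, hw'⟩ := h.exists_model
  rw [← hr]; exact (hw' w).1 hw

theorem normalises {c x : G} (hc : c ∈ centralizer ({t} : Set G)) (hx : x ∈ wcl t) :
    c * x * c⁻¹ ∈ wcl t := by
  have := conj_mem_wcl c hx
  rwa [conj_fix (mem_centralizer_singleton_iff.1 hc)] at this

theorem normalises_alt {c x : G} (hc : c ∈ centralizer ({t} : Set G)) (hx : x ∈ alt t) :
    c * x * c⁻¹ ∈ alt t := by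
  have := conj_mem_alt c hx
  rwa [conj_fix (mem_centralizer_singleton_iff.1 hc)] at this

theorem card_wcl : Nat.card (wcl t) = 120 := by
  obtain ⟨e⟩ := h.iso
  rw [Nat.card_congr e.toEquiv, Nat.card_prod, nat_card_alternatingGroup, Nat.card_fin,
    Nat.card_eq_fintype_card, Fintype.card_multiplicative, ZMod.card]
  rfl

variable [Finite G]

/-- Normal subgroups of odd order meet the weak closure trivially. -/
theorem eq_one_of_odd {N : Subgroup G} [N.Normal] (hN : Odd (Nat.card N)) {c : G} (hc : c ∈ N)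
    (hcw : c ∈ wcl t) : c = 1 := by
  obtain ⟨f, hf, -, -, hw⟩ := h.exists_model
  have hbot : N.comap f = ⊥ := by
    haveI := simple
    rcases IsSimpleGroup.eq_bot_or_eq_top_of_normal (N.comap f) inferInstance with e | e
    · exact e
    · exfalso
      have h1 := hN.of_dvd_nat (card_comap_dvd_of_injective N f hf)
      rw [e, card_top, nat_card_alternatingGroup, Nat.card_fin] at h1
      exact absurd h1 (by decide)
  have hkill : ∀ a : alternatingGroup (Fin 5),
      (∀ x, f a * f x * (f a)⁻¹ * (f x)⁻¹ ∈ N) → a = 1 := fun a ha => center_eq a fun x => by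
    have : a * x * a⁻¹ * x⁻¹ ∈ N.comap f := by
      rw [mem_comap, map_mul, map_mul, map_mul, map_inv, map_inv]; exact ha x
    rw [hbot, mem_bot, ← commutatorElement_def] at this
    exact commutatorElement_eq_one_iff_mul_comm.1 this
  have hN' : ∀ x : G, c * x * c⁻¹ * x⁻¹ ∈ N := fun x => by
    rw [show c * x * c⁻¹ * x⁻¹ = c * (x * c⁻¹ * x⁻¹) by group]
    exact mul_mem hc ((inferInstance : N.Normal).conj_mem _ (inv_mem hc) x)
  rcases (hw c).1 hcw with ⟨a, rfl⟩ | ⟨a, ha⟩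
  · rw [hkill a fun x => hN' _, map_one]
  · exfalso
    have hcomm : ∀ x, f a * f x * (f a)⁻¹ * (f x)⁻¹ = c * f x * c⁻¹ * (f x)⁻¹ := fun x => by
      have hx : f x ∈ wcl t := (hw _).2 (Or.inl ⟨x, rfl⟩)
      have h1 : t * c * f x * c⁻¹ * t⁻¹ = c * f x * c⁻¹ := by
        have h2 := comm_wcl (mul_mem (mul_mem hcw hx) (inv_mem hcw))
        calc t * c * f x * c⁻¹ * t⁻¹ = t * (c * f x * c⁻¹) * t⁻¹ := by group
          _ = c * f x * c⁻¹ := by rw [← h2, mul_inv_cancel_right]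
      rw [ha, _root_.mul_inv_rev]
      calc t * c * f x * (c⁻¹ * t⁻¹) * (f x)⁻¹ = t * c * f x * c⁻¹ * t⁻¹ * (f x)⁻¹ := by group
        _ = c * f x * c⁻¹ * (f x)⁻¹ := by rw [h1]
    have ha1 := hkill a fun x => by rw [hcomm]; exact hN' _
    rw [ha1, map_one] at ha
    have hct : c = t := by
      rw [← inv_eq_of_mul_eq_one_right ha.symm, inv_eq_of_mul_eq_one_right h.tt]
    rw [hct] at hc
    have h2 := hN.of_dvd_nat (Subgroup.orderOf_dvd_natCard _ hc)
    rw [orderOf_eq_prime (by rw [pow_two, h.tt]) h.t1] at h2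
    exact absurd h2 (by decide)

theorem card_V : Nat.card ((S : Subgroup G) ⊓ wcl t : Subgroup G) = 8 := by
  haveI : Fact (Nat.Prime 2) := ⟨Nat.prime_two⟩
  set C := centralizer ({t} : Set G)
  haveI : ((wcl t).subgroupOf C).Normal := ⟨fun x hx c => by
    rw [mem_subgroupOf] at hx ⊢
    exact h.normalises c.2 hx⟩
  have h1 := CfsgLib.Fusion.Basic.not_dvd_relIndex_of_normal (S.subtype h.Sc) ((wcl t).subgroupOf C)
  rw [show ((S.subtype h.Sc : Sylow 2 C) : Subgroup C) = (S : Subgroup G).subgroupOf C from rfl,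
    show (S : Subgroup G).subgroupOf C ⊓ (wcl t).subgroupOf C = ((S : Subgroup G) ⊓ wcl t).subgroupOf C
      from (comap_inf _ _ _).symm, relIndex_subgroupOf (wcl_le t)] at h1
  have h2 := (((S : Subgroup G) ⊓ wcl t).subgroupOf (wcl t)).card_mul_index
  change _ * ((S : Subgroup G) ⊓ wcl t).relIndex (wcl t) = _ at h2
  rw [h.card_wcl, Nat.card_congr (subgroupOfEquivOfLe inf_le_right).toEquiv] at h2
  obtain ⟨k, hk⟩ := IsPGroup.iff_card.1 (IsPGroup.to_le S.2 (inf_le_left : (S : Subgroup G) ⊓ wcl t ≤ _))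
  rw [hk] at h2 ⊢
  have e := congrArg (fun n : ℕ => n.factorization 2) h2
  set r := ((S : Subgroup G) ⊓ wcl t).relIndex (wcl t)
  have h120 : (120 : ℕ) = 2 ^ 3 * 15 := rfl
  rw [Nat.factorization_mul (pow_ne_zero _ two_ne_zero) (fun h0 => h1 (by rw [h0]; exact dvd_zero 2)),
    h120, Nat.factorization_mul (pow_ne_zero _ two_ne_zero) (by norm_num),
    Finsupp.add_apply, Finsupp.add_apply, Nat.factorization_eq_zero_of_not_dvd h1,
    Nat.factorization_eq_zero_of_not_dvd (show ¬ 2 ∣ 15 by decide),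
    Nat.prime_two.factorization_pow, Finsupp.single_eq_same, Nat.prime_two.factorization_pow,
    Finsupp.single_eq_same] at e
  rw [show k = 3 by omega]; rfl

theorem t_mem_V : t ∈ (S : Subgroup G) ⊓ wcl t := mem_inf.2 ⟨h.tS, self_mem_wcl t⟩

theorem sq_V {x : G} (hx : x ∈ (S : Subgroup G) ⊓ wcl t) : x * x = 1 := by
  obtain ⟨f, hf, -, -, hw⟩ := h.exists_model
  have h8 : x ^ 8 = 1 := by
    have := congrArg Subtype.val (pow_card_eq_one' (x := (⟨x, hx⟩ : ((S : Subgroup G) ⊓ wcl t : Subgroup G))))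
    rwa [h.card_V] at this
  have key : ∀ a : alternatingGroup (Fin 5), f a ^ 8 = 1 → f a * f a = 1 := by
    intro a ha
    rw [← map_pow, ← map_one f] at ha
    have h4 : a * a * (a * a) * (a * a * (a * a)) = 1 := by
      rw [← hf ha]; simp [pow_succ, mul_assoc]
    have h2 : a * a * (a * a) = 1 := Subtype.ext
      (five_eight ((a : Equiv.Perm (Fin 5)) * a) (a * a).2 (congrArg Subtype.val h4))
    have h3 : a * a = 1 := Subtype.ext (five_eight a a.2 (congrArg Subtype.val h2))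
    rw [← map_mul, h3, map_one]
  rcases (hw x).1 hx.2 with ⟨a, rfl⟩ | ⟨a, ha⟩
  · exact key a h8
  · have hc : Commute t x := (comm_wcl hx.2).symm
    have := key a (by
      rw [ha, hc.mul_pow, h8, mul_one, show t ^ 8 = (t * t) ^ 4 by rw [← pow_two, ← pow_mul],
        h.tt, one_pow])
    rw [ha, hc.symm.mul_mul_mul_comm, h.tt, one_mul] at this
    exact this

theorem comm_V {x y : G} (hx : x ∈ (S : Subgroup G) ⊓ wcl t) (hy : y ∈ (S : Subgroup G) ⊓ wcl t) :
    x * y = y * x := by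
  rw [← inv_eq_of_mul_eq_one_right (h.sq_V (mul_mem hx hy)), _root_.mul_inv_rev,
    inv_eq_of_mul_eq_one_right (h.sq_V hx), inv_eq_of_mul_eq_one_right (h.sq_V hy)]

theorem card_four : Nat.card ((S : Subgroup G) ⊓ wcl t ⊓ alt t : Subgroup G) = 4 := by
  classical
  set V := (S : Subgroup G) ⊓ wcl t
  have hidx : (V ⊓ alt t).relIndex V = 2 := by
    show ((V ⊓ alt t).subgroupOf V).index = 2
    rw [index_eq_two_iff]
    refine ⟨⟨t, h.t_mem_V⟩, fun b => ?_⟩
    have hm : ∀ x : V, x ∈ (V ⊓ alt t).subgroupOf V ↔ (x : G) ∈ alt t :=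
      fun x => ⟨fun hx => hx.2, fun hx => ⟨x.2, hx⟩⟩
    rw [hm, hm]
    show Xor ((b : G) * t ∈ alt t) ((b : G) ∈ alt t)
    rcases h.split b.2.2 with hb | hb
    · exact Or.inr ⟨hb, fun hb' => h.t_notin ((mul_mem_cancel_left hb).1 hb')⟩
    · rw [← comm_wcl b.2.2] at hb
      exact Or.inl ⟨hb, fun hb' => h.t_notin ((mul_mem_cancel_left hb').1 hb)⟩
  have h1 := ((V ⊓ alt t).subgroupOf V).card_mul_index
  change _ * (V ⊓ alt t).relIndex V = _ at h1
  rw [hidx, h.card_V, Nat.card_congr (subgroupOfEquivOfLe inf_le_left).toEquiv] at h1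
  change Nat.card (V ⊓ alt t : Subgroup G) * 2 = 8 at h1
  omega

theorem exists_four : ∃ a b : G, (a ∈ (S : Subgroup G) ⊓ wcl t ∧ a ∈ alt t ∧ a ≠ 1) ∧
    (b ∈ (S : Subgroup G) ⊓ wcl t ∧ b ∈ alt t ∧ b ≠ 1) ∧ a ≠ b := by
  classical
  set F := (S : Subgroup G) ⊓ wcl t ⊓ alt t
  haveI := Fintype.ofFinite F
  have h4' : Fintype.card F = 4 := by rw [← Nat.card_eq_fintype_card, h.card_four]
  obtain ⟨a, ha⟩ : ∃ a : F, a ≠ 1 :=
    Fintype.exists_ne_of_one_lt_card (by rw [h4']; norm_num) 1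
  obtain ⟨b, hb⟩ : ∃ b : F, b ∉ ({1, a} : Finset F) := by
    by_contra hne
    push Not at hne
    have := Finset.card_le_card (s := Finset.univ) fun x _ => hne x
    rw [Finset.card_univ, h4'] at this
    have := this.trans Finset.card_le_two
    omega
  simp only [Finset.mem_insert, Finset.mem_singleton, not_or] at hb
  exact ⟨a, b, ⟨a.2.1, a.2.2, fun e => ha (Subtype.ext e)⟩,
    ⟨b.2.1, b.2.2, fun e => hb.1 (Subtype.ext e)⟩, fun e => hb.2 (Subtype.ext e).symm⟩

theorem four_gen {a b : G} (ha : a ∈ (S : Subgroup G) ⊓ wcl t ∧ a ∈ alt t ∧ a ≠ 1)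
    (hb : b ∈ (S : Subgroup G) ⊓ wcl t ∧ b ∈ alt t ∧ b ≠ 1) (hne : a ≠ b) {v : G}
    (hv : v ∈ (S : Subgroup G) ⊓ wcl t) (hv' : v ∈ alt t) :
    v = 1 ∨ v = a ∨ v = b ∨ v = a * b := by
  classical
  by_contra hn
  push Not at hn
  set F := (S : Subgroup G) ⊓ wcl t ⊓ alt t
  haveI := Fintype.ofFinite F
  have h4' : Fintype.card F = 4 := by rw [← Nat.card_eq_fintype_card, h.card_four]
  have hsub : ({1, a, b, a * b, v} : Finset G) ⊆ (Finset.univ : Finset F).map ⟨Subtype.val, Subtype.val_injective⟩ := by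
    intro x hx
    simp only [Finset.mem_insert, Finset.mem_singleton] at hx
    refine Finset.mem_map.2 ⟨⟨x, ?_⟩, Finset.mem_univ _, rfl⟩
    rcases hx with rfl | rfl | rfl | rfl | rfl
    exacts [one_mem _, ⟨ha.1, ha.2.1⟩, ⟨hb.1, hb.2.1⟩, mul_mem ⟨ha.1, ha.2.1⟩ ⟨hb.1, hb.2.1⟩, ⟨hv, hv'⟩]
  have hab : a * b ≠ 1 := fun e => hne (by
    rw [← inv_eq_of_mul_eq_one_right e, inv_eq_of_mul_eq_one_right (h.sq_V ha.1)])
  have hab' : a * b ≠ a := fun e => hb.2.2 (mul_eq_left.1 e)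
  have hab'' : a * b ≠ b := fun e => ha.2.2 (mul_eq_right.1 e)
  have h5 := Finset.card_le_card hsub
  rw [Finset.card_map, Finset.card_univ, h4', Finset.card_insert_of_notMem (by
      simp [ha.2.2.symm, hb.2.2.symm, hab.symm, hn.1.symm]),
    Finset.card_insert_of_notMem (by simp [hne, hab'.symm, hn.2.1.symm]),
    Finset.card_insert_of_notMem (by simp [hab''.symm, hn.2.2.1.symm]),
    Finset.card_insert_of_notMem (by simp [hn.2.2.2.symm]), Finset.card_singleton] at h5
  omega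

end Hyp

end CfsgLib.Involution.WeakClosureJ1
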