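import Cfsg.Agent.Lib.Involution.WeakClosureJ1.Fused
import Mathlib.GroupTheory.QuotientGroup.Basic

/-!
# The odd direct factor `core t S` of the centraliser
-/

set_option autoImplicit false
set_option linter.style.haveILetI false
set_option linter.unusedSectionVars false

namespace CfsgLib.Involution.WeakClosureJ1

open Subgroup
open scoped commutatorElement

universe u

variable {G : Type u} [Group G] [Finite G]

/-- The intersection of the kernels. -/
def core (t : G) (S : Sylow 2 G) : Subgroup G := ⨅ x ∈ {x : G | x ∈ vee t S ∧ x ≠ 1}, ker x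

theorem mem_core {t : G} {S : Sylow 2 G} {d : G} :
    d ∈ core t S ↔ ∀ x ∈ vee t S, x ≠ 1 → d ∈ ker x := by
  simp only [core, mem_iInf, Set.mem_setOf_eq, and_imp]

namespace Hyp

variable {t : G} {S : Sylow 2 G} (h : Hyp t S)
include h

theorem mem_cv_of {c a b : G} (ha : a ∈ vee t S ∧ a ∈ alt t ∧ a ≠ 1)
    (hb : b ∈ vee t S ∧ b ∈ alt t ∧ b ≠ 1) (hne : a ≠ b) (h0 : c * t = t * c) (h1 : c * a = a * c)
    (h2 : c * b = b * c) : c ∈ centralizer (vee t S : Set G) := by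
  have hfour : ∀ u ∈ vee t S, u ∈ alt t → Commute c u := by
    intro u hu hu'
    rcases h.four_gen ha hb hne hu hu' with rfl | rfl | rfl | rfl
    exacts [Commute.one_right c, h1, h2, Commute.mul_right (show Commute c a from h1) h2]
  refine mem_centralizer_iff.2 fun v hv => (?_ : Commute c v).symm
  rcases h.split hv.2 with hv' | hv'
  · exact hfour v hv hv'
  · have h3 := Commute.mul_right (show Commute c t from h0) (hfour _ (mul_mem h.t_mem_V hv) hv')
    rwa [← mul_assoc, h.tt, one_mul] at h3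

theorem cv_le_centralizer : centralizer (vee t S : Set G) ≤ centralizer ({t} : Set G) := fun _ hc =>
  mem_centralizer_singleton_iff.2 (mem_centralizer_iff.1 hc t h.t_mem_V).symm

theorem cv_le_normalizer : centralizer (vee t S : Set G) ≤ normalizer (vee t S : Set G) := fun c hc =>
  mem_normalizer_of fun v hv => by
    rwa [conj_fix ((mem_centralizer_iff.1 hc v hv).symm)]

/-- An element with square in `C(V)` fixing `t` lies in `C(V)`. -/
theorem mem_cv_of_sq {s : G} (hst : s * t = t * s) (hsN : s ∈ normalizer (vee t S : Set G))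
    (hs2 : s * s ∈ centralizer (vee t S : Set G)) : s ∈ centralizer (vee t S : Set G) := by
  obtain ⟨a₀, b₀, ha₀, hb₀, hne₀⟩ := h.exists_four
  have hsC : s ∈ centralizer ({t} : Set G) := mem_centralizer_singleton_iff.2 hst
  have hfix : ∀ a, a ∈ vee t S ∧ a ∈ alt t ∧ a ≠ 1 → s * a * s⁻¹ = a := by
    intro a ha
    by_contra hne
    set a' := s * a * s⁻¹ with ha'def
    have ha' : a' ∈ vee t S ∧ a' ∈ alt t ∧ a' ≠ 1 :=
      ⟨(mem_normalizer_iff.1 hsN a).1 ha.1, h.normalises_alt hsC ha.2.1,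
        fun e => ha.2.2 (conj_eq_one_iff.1 e)⟩
    have hback : s * a' * s⁻¹ = a := by
      rw [ha'def, show s * (s * a * s⁻¹) * s⁻¹ = s * s * a * (s * s)⁻¹ by group,
        conj_fix ((mem_centralizer_iff.1 hs2 a ha.1).symm)]
    set x := a * a' with hxdef
    have hxV : x ∈ vee t S := mul_mem ha.1 ha'.1
    have hx1 : x ≠ 1 := fun e => hne (by
      rw [← inv_eq_of_mul_eq_one_right (e : a * a' = 1), inv_eq_of_mul_eq_one_right (h.sq_V ha.1)])
    have hsx : s * x * s⁻¹ = x := by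
      rw [hxdef, ← conj_mul, hback, ← ha'def, h.comm_V ha'.1 ha.1]
    have hct : s * t * s⁻¹ = t := conj_fix hst
    have hcomm1 : ∀ u ∈ vee t S, u ∈ alt t → s * u * s⁻¹ = u ∨ s * u * s⁻¹ = u * x := by
      intro u hu hu'
      rcases h.four_gen ha ha' (Ne.symm hne) hu hu' with rfl | rfl | rfl | rfl
      · left; group
      · right
        rw [← ha'def, hxdef, ← mul_assoc, h.sq_V ha.1, one_mul]
      · right
        rw [hback, hxdef, h.comm_V ha.1 ha'.1, ← mul_assoc, h.sq_V ha'.1, one_mul]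
      · left
        exact hsx
    have hcomm : ∀ v ∈ vee t S, s * v * s⁻¹ = v ∨ s * v * s⁻¹ = v * x := by
      intro v hv
      rcases h.split hv.2 with hv' | hv'
      · exact hcomm1 v hv hv'
      · have e : v = t * (t * v) := by rw [← mul_assoc, h.tt, one_mul]
        rcases hcomm1 _ (mul_mem h.t_mem_V hv) hv' with e' | e'
        · left; rw [e, ← conj_mul, hct, e']
        · right
          rw [e, ← conj_mul, hct, e']
          simp only [mul_assoc]
    -- the transversal plane of `x` is fixed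
    obtain ⟨n, hn, hnx⟩ := h.exists_norm hxV (h.all_conj hxV hx1)
    have hxn : x ∉ alt x := fun hm => h.t_notin (by
      have := conj_mem_alt n⁻¹ hm
      rw [inv_inv, show n⁻¹ * x * n = t by rw [← hnx]; group] at this
      exact this)
    have hsxA : ∀ v ∈ alt x, s * v * s⁻¹ ∈ alt x := fun v hv => by
      have := conj_mem_alt s hv
      rwa [hsx] at this
    have hP : ∀ v ∈ vee t S, v ∈ alt x → s * v * s⁻¹ = v := by
      intro v hv hv'
      rcases hcomm v hv with e | e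
      · exact e
      · exact absurd ((mul_mem_cancel_left hv').1 (e ▸ hsxA v hv')) hxn
    have hdec : a ∈ alt x ∨ x * a ∈ alt x := by
      have hm : n⁻¹ * a * n ∈ vee t S := by
        have := (mem_normalizer_iff.1 (inv_mem hn) a).1 ha.1
        rwa [inv_inv] at this
      rcases h.split hm.2 with hm' | hm'
      · left
        have := conj_mem_alt n hm'
        rwa [hnx, show n * (n⁻¹ * a * n) * n⁻¹ = a by group] at this
      · right
        have := conj_mem_alt n hm'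
        rwa [hnx, show n * (t * (n⁻¹ * a * n)) * n⁻¹ = n * t * n⁻¹ * a by group, hnx] at this
    rcases hdec with hd | hd
    · exact hne (hP a ha.1 hd)
    · refine hne ?_
      have := hP _ (mul_mem hxV ha.1) hd
      rw [← conj_mul, hsx] at this
      exact mul_left_cancel this
  exact h.mem_cv_of ha₀ hb₀ hne₀ hst (mul_inv_eq_iff_eq_mul.1 (hfix a₀ ha₀))
    (mul_inv_eq_iff_eq_mul.1 (hfix b₀ hb₀))

theorem S_le_cv : (S : Subgroup G) ≤ centralizer (vee t S : Set G) := by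
  have key : ∀ k : ℕ, ∀ s ∈ (S : Subgroup G), s ^ 2 ^ k ∈ centralizer (vee t S : Set G) →
      s ∈ centralizer (vee t S : Set G) := by
    intro k
    induction k with
    | zero => intro s _ h1; rwa [pow_zero, pow_one] at h1
    | succ k ih =>
      intro s hs h1
      refine h.mem_cv_of_sq (mem_centralizer_singleton_iff.1 (h.Sc hs)) (h.normalizer_of_S hs) ?_
      refine ih _ (mul_mem hs hs) ?_
      rwa [← pow_two, ← pow_mul, ← pow_succ']
  intro s hs
  obtain ⟨k, hk⟩ := S.2 ⟨s, hs⟩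
  refine key k s hs ?_
  have := congrArg Subtype.val hk
  rw [SubgroupClass.coe_pow] at this
  rw [this]
  exact one_mem _

theorem exists_inner {y : G} (hyt : y * t = t * y) (hyN : y ∈ normalizer (vee t S : Set G)) :
    ∃ w ∈ alt t, w ∈ normalizer (vee t S : Set G) ∧ w⁻¹ * y ∈ centralizer (vee t S : Set G) := by
  obtain ⟨a, b, ha, hb, hne⟩ := h.exists_four
  have hyC : y ∈ centralizer ({t} : Set G) := mem_centralizer_singleton_iff.2 hyt
  obtain ⟨c, hcE, hcN, hc⟩ := h.spread ha (b := y * a * y⁻¹)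
    ⟨(mem_normalizer_iff.1 hyN a).1 ha.1, h.normalises_alt hyC ha.2.1, fun e => ha.2.2 (conj_eq_one_iff.1 e)⟩
  refine ⟨c, hcE, hcN, ?_⟩
  set z := c⁻¹ * y with hz
  have hzN : z ∈ normalizer (vee t S : Set G) := mul_mem (inv_mem hcN) hyN
  have hzt : z * t = t * z := mem_centralizer_singleton_iff.1
    (mul_mem (inv_mem (wcl_le t (h.alt_le hcE))) hyC)
  have hzC : z ∈ centralizer ({t} : Set G) := mem_centralizer_singleton_iff.2 hzt
  have hza : z * a * z⁻¹ = a := by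
    rw [hz, show c⁻¹ * y * a * (c⁻¹ * y)⁻¹ = c⁻¹ * (y * a * y⁻¹) * c by group, ← hc]; group
  refine h.mem_cv_of_sq hzt hzN ?_
  refine h.mem_cv_of ha hb hne ?_ ?_ ?_
  · rw [mul_assoc, hzt, ← mul_assoc, hzt, mul_assoc]
  · have e := mul_inv_eq_iff_eq_mul.1 hza
    rw [mul_assoc, e, ← mul_assoc, e, mul_assoc]
  · have hb' := h.four_gen ha hb hne ((mem_normalizer_iff.1 hzN b).1 hb.1) (h.normalises_alt hzC hb.2.1)
    have hzz : z * z * b * (z * z)⁻¹ = b := by
      rw [show z * z * b * (z * z)⁻¹ = z * (z * b * z⁻¹) * z⁻¹ by group]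
      rcases hb' with e | e | e | e
      · exact absurd (conj_eq_one_iff.1 e) hb.2.2
      · exact absurd (mul_left_cancel (mul_right_cancel (e.trans hza.symm))) hne.symm
      · rw [e, e]
      · rw [e, ← conj_mul, hza, e, ← mul_assoc, h.sq_V ha.1, one_mul]
    exact mul_inv_eq_iff_eq_mul.1 hzz

theorem t_mem_ker : t ∈ ker t :=
  mem_inf.2 ⟨mem_centralizer_singleton_iff.2 rfl,
    mem_centralizer_iff.2 fun _ hy => comm_wcl (h.alt_le hy)⟩

theorem ker_le_cv : ker t ≤ centralizer (vee t S : Set G) := fun k hk => by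
  obtain ⟨a, b, ha, hb, hne⟩ := h.exists_four
  exact h.mem_cv_of ha hb hne (mem_centralizer_singleton_iff.1 (mem_inf.1 hk).1)
    (mem_centralizer_iff.1 (mem_inf.1 hk).2 a ha.2.1).symm
    (mem_centralizer_iff.1 (mem_inf.1 hk).2 b hb.2.1).symm

theorem eq_one_of_ker_alt {e : G} (he : e ∈ alt t) (hk : e ∈ ker t) : e = 1 := by
  obtain ⟨f, hf, hr, -, -⟩ := h.exists_model
  obtain ⟨a, rfl⟩ : e ∈ f.range := hr ▸ he
  rw [center_eq a fun x => hf ?_, map_one]
  rw [map_mul, map_mul]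
  exact (mem_centralizer_iff.1 (mem_inf.1 hk).2 (f x) (hr ▸ ⟨x, rfl⟩ : f x ∈ alt t)).symm

theorem vee_ker {v : G} (hv : v ∈ vee t S) (hk : v ∈ ker t) : v = 1 ∨ v = t := by
  rcases h.split hv.2 with h' | h'
  · exact Or.inl (h.eq_one_of_ker_alt h' hk)
  · right
    have := h.eq_one_of_ker_alt h' (mul_mem h.t_mem_ker hk)
    rw [← inv_eq_of_mul_eq_one_right this, inv_eq_of_mul_eq_one_right h.tt]

theorem cv_split {z : G} (hz : z ∈ centralizer (vee t S : Set G)) :
    ∃ v ∈ vee t S, v ∈ alt t ∧ v⁻¹ * z ∈ ker t := by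
  obtain ⟨a, b, ha, hb, hne⟩ := h.exists_four
  obtain ⟨f, hf, hr, -, -⟩ := h.exists_model
  have hzC := h.cv_le_centralizer hz
  have h1 : ∀ x, z * f x * z⁻¹ ∈ f.range := fun x => hr ▸ h.normalises_alt hzC (hr ▸ ⟨x, rfl⟩)
  have h2 : ∀ x, z⁻¹ * f x * z ∈ f.range := fun x => by
    have := h.normalises_alt (inv_mem hzC) (hr ▸ ⟨x, rfl⟩ : f x ∈ alt t)
    rw [inv_inv] at this
    exact hr ▸ this
  choose p hp using h1
  choose q hq using h2
  let φ : MulAut (alternatingGroup (Fin 5)) :=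
    { toFun := p
      invFun := q
      left_inv := fun x => hf (by rw [hq, hp]; group)
      right_inv := fun x => hf (by rw [hp, hq]; group)
      map_mul' := fun x y => hf (by rw [map_mul, hp, hp, hp, map_mul]; group) }
  obtain ⟨A, hA⟩ : a ∈ f.range := hr ▸ ha.2.1
  obtain ⟨B, hB⟩ : b ∈ f.range := hr ▸ hb.2.1
  obtain ⟨w, hw, hφ⟩ := aut_four φ (a := A) (b := B)
    (hf (by rw [map_mul, map_one, hA, h.sq_V ha.1])) (fun e => ha.2.2 (by rw [← hA, e, map_one]))
    (hf (by rw [map_mul, map_one, hB, h.sq_V hb.1])) (fun e => hb.2.2 (by rw [← hB, e, map_one]))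
    (hf (by rw [map_mul, map_mul, hA, hB, h.comm_V ha.1 hb.1])) (fun e => hne (by rw [← hA, ← hB, e]))
    (hf (by show f (p A) = f A; rw [hp, hA, conj_fix ((mem_centralizer_iff.1 hz a ha.1).symm)]))
    (hf (by show f (p B) = f B; rw [hp, hB, conj_fix ((mem_centralizer_iff.1 hz b hb.1).symm)]))
  have hwV : f w ∈ vee t S := by
    rcases hw with rfl | rfl | rfl | rfl
    · rw [map_one]; exact one_mem _
    · rw [hA]; exact ha.1
    · rw [hB]; exact hb.1
    · rw [map_mul, hA, hB]; exact mul_mem ha.1 hb.1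
  have hwE : f w ∈ alt t := hr ▸ ⟨w, rfl⟩
  refine ⟨f w, hwV, hwE, mem_inf.2 ⟨mul_mem (inv_mem (h.vee_le_centralizer hwV)) hzC,
    mem_centralizer_iff.2 fun y hy => ?_⟩⟩
  obtain ⟨x, rfl⟩ : y ∈ f.range := hr ▸ hy
  have e : z * f x * z⁻¹ = f w * f x * (f w)⁻¹ := by
    rw [← hp, ← map_inv, ← map_mul, ← map_mul]; exact congrArg f (hφ x)
  calc f x * ((f w)⁻¹ * z) = (f w)⁻¹ * (f w * f x * (f w)⁻¹) * z := by group
    _ = (f w)⁻¹ * (z * f x * z⁻¹) * z := by rw [e]
    _ = (f w)⁻¹ * z * f x := by group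

theorem centralizer_split {c : G} (hc : c ∈ centralizer ({t} : Set G)) :
    ∃ e ∈ alt t, ∃ k ∈ ker t, c = e * k := by
  have hct := mem_centralizer_singleton_iff.1 hc
  let Q := (vee t S).map (MulAut.conj c).toMonoidHom
  have hQ : Q ≤ wcl t := by
    rintro _ ⟨v, hv, rfl⟩
    exact h.normalises hc hv.2
  obtain ⟨w, hw, hwv⟩ := h.exists_conj_vee hQ ((IsPGroup.to_le S.2 inf_le_left).map _)
  have hy : w * c ∈ normalizer (vee t S : Set G) := mem_normalizer_of fun v hv => by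
    have := hwv _ ⟨v, hv, rfl⟩
    simp only [MulEquiv.coe_toMonoidHom, MulAut.conj_apply] at this
    rwa [show w * c * v * (w * c)⁻¹ = w * (c * v * c⁻¹) * w⁻¹ by group]
  obtain ⟨w', hw', -, hz⟩ := h.exists_inner (mem_centralizer_singleton_iff.1 (mul_mem (wcl_le t hw) hc)) hy
  obtain ⟨v, hv, -, hk⟩ := h.cv_split hz
  have hu : w⁻¹ * w' * v ∈ wcl t := mul_mem (mul_mem (inv_mem hw) (h.alt_le hw')) hv.2
  have hce : c = w⁻¹ * w' * v * (v⁻¹ * (w'⁻¹ * (w * c))) := by group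
  rcases h.split hu with hu' | hu'
  · exact ⟨_, hu', _, hk, hce⟩
  · refine ⟨_, hu', _, mul_mem h.t_mem_ker hk, ?_⟩
    calc c = t * t * (w⁻¹ * w' * v * (v⁻¹ * (w'⁻¹ * (w * c)))) := by rw [h.tt, one_mul, ← hce]
      _ = t * (t * (w⁻¹ * w' * v) * (v⁻¹ * (w'⁻¹ * (w * c)))) := by group
      _ = _ := by
        rw [← mul_assoc t, ← comm_wcl (mul_mem (self_mem_wcl t) hu), mul_assoc]

theorem exists_fpf : ∃ c ∈ alt t, c ∈ normalizer (vee t S : Set G) ∧
    ∀ v ∈ vee t S, v ∈ alt t → c * v * c⁻¹ = v → v = 1 := by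
  obtain ⟨a, b, ha, hb, hne⟩ := h.exists_four
  obtain ⟨c, hc, hcN, e1, e2⟩ := h.exists_cycle ha hb hne
  refine ⟨c, hc, hcN, fun v hv hv' hfix => ?_⟩
  rcases h.four_gen ha hb hne hv hv' with e | e | e | e
  · exact e
  · rw [e, e1] at hfix; exact absurd hfix hne.symm
  · rw [e, e2] at hfix; exact absurd (mul_eq_right.1 hfix) ha.2.2
  · exfalso
    rw [e, ← conj_mul, e1, e2, h.comm_V ha.1 hb.1, ← mul_assoc, h.sq_V hb.1, one_mul] at hfix
    exact ha.2.2 ((mul_eq_right (b := b * a)).1 (by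
      have := hfix
      rw [h.comm_V hb.1 ha.1] at this ⊢
      exact absurd (mul_eq_left.1 this.symm) hb.2.2))

/-- Transport from `t` to an involution of the piece. -/
theorem exists_transport {x : G} (hx : x ∈ vee t S) (hx1 : x ≠ 1) :
    ∃ n ∈ normalizer (vee t S : Set G), n * t * n⁻¹ = x ∧
      (∀ v ∈ alt x, n⁻¹ * v * n ∈ alt t) ∧ ∀ v ∈ ker x, n⁻¹ * v * n ∈ ker t := by
  obtain ⟨n, hn, e⟩ := h.exists_norm hx (h.all_conj hx hx1)
  have e' : n⁻¹ * x * n = t := by rw [← e]; group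
  refine ⟨n, hn, e, fun v hv => ?_, fun v hv => ?_⟩
  · have := conj_mem_alt n⁻¹ hv; rwa [inv_inv, e'] at this
  · have := conj_mem_ker n⁻¹ hv; rwa [inv_inv, e'] at this

theorem conj_inv_mem_vee {n v : G} (hn : n ∈ normalizer (vee t S : Set G)) (hv : v ∈ vee t S) :
    n⁻¹ * v * n ∈ vee t S := by
  have := (mem_normalizer_iff.1 (inv_mem hn) v).1 hv
  rwa [inv_inv] at this

theorem ker_le_cv' {x : G} (hx : x ∈ vee t S) (hx1 : x ≠ 1) :
    ker x ≤ centralizer (vee t S : Set G) := by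
  obtain ⟨n, hn, -, -, hk⟩ := h.exists_transport hx hx1
  intro k hkx
  refine mem_centralizer_iff.2 fun v hv => ?_
  have := mem_centralizer_iff.1 (h.ker_le_cv (hk k hkx)) _ (h.conj_inv_mem_vee hn hv)
  calc v * k = n * (n⁻¹ * v * n * (n⁻¹ * k * n)) * n⁻¹ := by group
    _ = n * (n⁻¹ * k * n * (n⁻¹ * v * n)) * n⁻¹ := by rw [this]
    _ = k * v := by group

theorem cv_split' {x : G} (hx : x ∈ vee t S) (hx1 : x ≠ 1) {z : G}
    (hz : z ∈ centralizer (vee t S : Set G)) : ∃ v ∈ vee t S, v ∈ alt x ∧ v⁻¹ * z ∈ ker x := by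
  obtain ⟨n, hn, e, -, -⟩ := h.exists_transport hx hx1
  have hz' : n⁻¹ * z * n ∈ centralizer (vee t S : Set G) := mem_centralizer_iff.2 fun v hv => by
    have := mem_centralizer_iff.1 hz _ ((mem_normalizer_iff.1 hn v).1 hv)
    calc v * (n⁻¹ * z * n) = n⁻¹ * (n * v * n⁻¹ * z) * n := by group
      _ = n⁻¹ * (z * (n * v * n⁻¹)) * n := by rw [this]
      _ = n⁻¹ * z * n * v := by group
  obtain ⟨v, hv, hv', hk⟩ := h.cv_split hz'
  refine ⟨n * v * n⁻¹, (mem_normalizer_iff.1 hn v).1 hv, e ▸ conj_mem_alt n hv', ?_⟩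
  have := conj_mem_ker n hk
  rwa [e, show n * (v⁻¹ * (n⁻¹ * z * n)) * n⁻¹ = (n * v * n⁻¹)⁻¹ * z by group] at this

theorem exists_fpf' {x : G} (hx : x ∈ vee t S) (hx1 : x ≠ 1) :
    ∃ c ∈ alt x, c ∈ normalizer (vee t S : Set G) ∧
      ∀ v ∈ vee t S, v ∈ alt x → c * v * c⁻¹ = v → v = 1 := by
  obtain ⟨n, hn, e, he, -⟩ := h.exists_transport hx hx1
  obtain ⟨c, hc, hcN, hfix⟩ := h.exists_fpf
  refine ⟨n * c * n⁻¹, e ▸ conj_mem_alt n hc, mul_mem (mul_mem hn hcN) (inv_mem hn), fun v hv hv' hf => ?_⟩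
  have h1 : n⁻¹ * v * n = 1 := by
    refine hfix _ (h.conj_inv_mem_vee hn hv) (he v hv') ?_
    conv_rhs => rw [← hf]
    group
  calc v = n * (n⁻¹ * v * n) * n⁻¹ := by group
    _ = 1 := by rw [h1]; group

/-- The generators of the normaliser of the piece. -/
theorem normalizer_eq : normalizer (vee t S : Set G) =
    closure ((centralizer (vee t S : Set G) : Set G) ∪
      {c | ∃ x ∈ vee t S, x ≠ 1 ∧ c ∈ alt x ∧ c ∈ normalizer (vee t S : Set G)}) := by
  set N := normalizer (vee t S : Set G)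
  set gens := (centralizer (vee t S : Set G) : Set G) ∪
      {c | ∃ x ∈ vee t S, x ≠ 1 ∧ c ∈ alt x ∧ c ∈ N}
  set N₀ := closure gens
  have hle : N₀ ≤ N := (closure_le _).2 (by
    rintro c (hc | ⟨x, -, -, -, hc⟩)
    exacts [h.cv_le_normalizer hc, hc])
  have hst : centralizer ({t} : Set G) ⊓ N ≤ N₀ := by
    rintro y ⟨hy, hyN⟩
    obtain ⟨w, hw, hwN, hz⟩ := h.exists_inner (mem_centralizer_singleton_iff.1 hy) hyN
    have := mul_mem (subset_closure (Or.inr ⟨t, h.t_mem_V, h.t1, hw, hwN⟩) : w ∈ N₀)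
      (subset_closure (Or.inl hz) : w⁻¹ * y ∈ N₀)
    rwa [mul_inv_cancel_left] at this
  have h7 := relIndex_mul_relIndex _ _ _ hst hle
  rw [h.stab_relIndex, h.card_orbit] at h7
  rcases (Nat.dvd_prime (by norm_num : Nat.Prime 7)).1 (Dvd.intro_left _ h7) with e | e
  · exact le_antisymm (relIndex_eq_one.1 e) hle
  · exfalso
    rw [e] at h7
    have h1 : (centralizer ({t} : Set G) ⊓ N).relIndex N₀ = 1 := by omega
    have hN₀ : ∀ c ∈ N₀, c * t = t * c := fun c hc =>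
      mem_centralizer_singleton_iff.1 (relIndex_eq_one.1 h1 hc).1
    obtain ⟨a, b, ha, hb, hne⟩ := h.exists_four
    obtain ⟨c₀, hc₀, hc₀N, hfix⟩ := h.exists_fpf
    obtain ⟨m, hm, hma⟩ := h.exists_norm ha.1 (h.all_conj ha.1 ha.2.2)
    refine ha.2.2 (hfix a ha.1 ha.2.1 ?_)
    have hg : m⁻¹ * c₀ * m ∈ N₀ := subset_closure (Or.inr ⟨m⁻¹ * t * m,
      h.conj_inv_mem_vee hm h.t_mem_V, fun e' => h.t1 (by
        calc t = m * (m⁻¹ * t * m) * m⁻¹ := by group
          _ = 1 := by rw [e']; group),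
      by have := conj_mem_alt m⁻¹ hc₀; rwa [inv_inv] at this,
      mul_mem (mul_mem (inv_mem hm) hc₀N) hm⟩)
    rw [← hma]
    calc c₀ * (m * t * m⁻¹) * c₀⁻¹ = m * (m⁻¹ * c₀ * m * t * (m⁻¹ * c₀ * m)⁻¹) * m⁻¹ := by group
      _ = m * t * m⁻¹ := by rw [conj_fix (hN₀ _ hg)]

/-- A subgroup containing all the `alt x` is transitive on the piece. -/
theorem exists_conj_in (L : Subgroup G) (hL : ∀ x ∈ vee t S, x ≠ 1 → alt x ≤ L) {v : G}
    (hv : v ∈ vee t S) (hv1 : v ≠ 1) :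
    ∃ l ∈ L, l ∈ normalizer (vee t S : Set G) ∧ l * t * l⁻¹ = v := by
  obtain ⟨n, hn, rfl⟩ := h.exists_norm hv (h.all_conj hv hv1)
  suffices hall : ∀ n ∈ normalizer (vee t S : Set G), ∃ l ∈ L,
      l ∈ normalizer (vee t S : Set G) ∧ ∀ u ∈ vee t S, l * u * l⁻¹ = n * u * n⁻¹ by
    obtain ⟨l, hl, hlN, e⟩ := hall n hn
    exact ⟨l, hl, hlN, e t h.t_mem_V⟩
  intro n hn
  rw [h.normalizer_eq] at hn
  induction hn using closure_induction with
  | mem c hc =>
    rcases hc with hc | ⟨x, hx, hx1, hc, hcN⟩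
    · exact ⟨1, one_mem _, one_mem _, fun u hu => by
        rw [conj_fix ((mem_centralizer_iff.1 hc u hu).symm)]; group⟩
    · exact ⟨c, hL x hx hx1 hc, hcN, fun _ _ => rfl⟩
  | one => exact ⟨1, one_mem _, one_mem _, fun _ _ => rfl⟩
  | mul a b _ _ iha ihb =>
    obtain ⟨l, hl, hlN, e⟩ := iha
    obtain ⟨l', hl', hlN', e'⟩ := ihb
    refine ⟨l * l', mul_mem hl hl', mul_mem hlN hlN', fun u hu => ?_⟩
    calc l * l' * u * (l * l')⁻¹ = l * (l' * u * l'⁻¹) * l⁻¹ := by group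
      _ = a * (l' * u * l'⁻¹) * a⁻¹ := e _ ((mem_normalizer_iff.1 hlN' u).1 hu)
      _ = a * b * u * (a * b)⁻¹ := by rw [e' u hu]; group
  | inv a ha iha =>
    obtain ⟨l, hl, hlN, e⟩ := iha
    refine ⟨l⁻¹, inv_mem hl, inv_mem hlN, fun u hu => ?_⟩
    have hu' := h.conj_inv_mem_vee hlN hu
    have := e _ hu'
    rw [show l * (l⁻¹ * u * l) * l⁻¹ = u by group] at this
    rw [inv_inv, inv_inv]
    conv_rhs => rw [this]
    group

theorem core_le_cv : core t S ≤ centralizer (vee t S : Set G) := fun _ hd =>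
  h.ker_le_cv (mem_core.1 hd t h.t_mem_V h.t1)

theorem conj_mem_core {n d : G} (hn : n ∈ normalizer (vee t S : Set G)) (hd : d ∈ core t S) :
    n * d * n⁻¹ ∈ core t S := mem_core.2 fun x hx hx1 => by
  have hx1' : n⁻¹ * x * n ≠ 1 := fun e => hx1 (by
    calc x = n * (n⁻¹ * x * n) * n⁻¹ := by group
      _ = 1 := by rw [e]; group)
  have := conj_mem_ker n (mem_core.1 hd _ (h.conj_inv_mem_vee hn hx) hx1')
  rwa [show n * (n⁻¹ * x * n) * n⁻¹ = x by group] at this

theorem conj_mem_ker_cv {x c k : G} (hx : x ∈ vee t S) (hc : c ∈ centralizer (vee t S : Set G))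
    (hk : k ∈ ker x) : c * k * c⁻¹ ∈ ker x := by
  have := conj_mem_ker c hk
  rwa [conj_fix ((mem_centralizer_iff.1 hc x hx).symm)] at this

theorem comm_mem_core {a b : G} (ha : a ∈ centralizer (vee t S : Set G))
    (hb : b ∈ centralizer (vee t S : Set G)) : ⁅a, b⁆ ∈ core t S := mem_core.2 fun x hx hx1 => by
  obtain ⟨v, hv, -, hk⟩ := h.cv_split' hx hx1 ha
  set k := v⁻¹ * a
  have hav : a = v * k := (mul_inv_cancel_left v a).symm
  have hbv : b * v⁻¹ = v⁻¹ * b := ((show Commute b v from (mem_centralizer_iff.1 hb v hv).symm).inv_right).eq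
  have hvC : v ∈ centralizer (vee t S : Set G) := mem_centralizer_iff.2 fun u hu => h.comm_V hu hv
  rw [hav, commutatorElement_def, show v * k * b * (v * k)⁻¹ * b⁻¹ =
    v * (k * (b * k⁻¹ * b⁻¹)) * (b * v⁻¹) * b⁻¹ by group, hbv,
    show v * (k * (b * k⁻¹ * b⁻¹)) * (v⁻¹ * b) * b⁻¹ = v * (k * (b * k⁻¹ * b⁻¹)) * v⁻¹ by group]
  exact h.conj_mem_ker_cv hx hvC (mul_mem hk (h.conj_mem_ker_cv hx hb (inv_mem hk)))

theorem sq_mem_core {a : G} (ha : a ∈ centralizer (vee t S : Set G)) : a * a ∈ core t S :=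
  mem_core.2 fun x hx hx1 => by
  obtain ⟨v, hv, -, hk⟩ := h.cv_split' hx hx1 ha
  set k := v⁻¹ * a
  have hkv : Commute v k := mem_centralizer_iff.1 (h.ker_le_cv' hx hx1 hk) v hv
  rw [show a = v * k from (mul_inv_cancel_left v a).symm, hkv.symm.mul_mul_mul_comm, h.sq_V hv, one_mul]
  exact mul_mem hk hk

/-- `C(V) = V × core`. -/
theorem cv_decomp {c₀ : G} (hc₀ : c₀ ∈ centralizer (vee t S : Set G)) :
    ∃ v ∈ vee t S, c₀ * v ∈ core t S := by
  classical
  haveI : Fact (Nat.Prime 2) := ⟨Nat.prime_two⟩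
  set CV := centralizer (vee t S : Set G)
  set N := normalizer (vee t S : Set G)
  haveI hn : ((core t S).subgroupOf CV).Normal := ⟨fun d hd c => by
    rw [mem_subgroupOf] at hd ⊢
    exact h.conj_mem_core (h.cv_le_normalizer c.2) hd⟩
  let π := QuotientGroup.mk' ((core t S).subgroupOf CV)
  have hAc : ∀ a b : CV ⧸ (core t S).subgroupOf CV, a * b = b * a := by
    intro a b
    induction a using QuotientGroup.induction_on with
    | _ a =>
      induction b using QuotientGroup.induction_on with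
      | _ b =>
        rw [← commutatorElement_eq_one_iff_mul_comm]
        show ⁅π a, π b⁆ = 1
        rw [← map_commutatorElement, QuotientGroup.mk'_apply, QuotientGroup.eq_one_iff, mem_subgroupOf]
        exact h.comm_mem_core a.2 b.2
  letI : CommGroup (CV ⧸ (core t S).subgroupOf CV) :=
    { (inferInstance : Group (CV ⧸ (core t S).subgroupOf CV)) with mul_comm := hAc }
  have hcN : ∀ n ∈ N, ∀ c : CV, n * c * n⁻¹ ∈ CV := fun n hn c => mem_centralizer_iff.2 fun v hv => by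
    have := mem_centralizer_iff.1 c.2 _ (h.conj_inv_mem_vee hn hv)
    calc v * (n * c * n⁻¹) = n * (n⁻¹ * v * n * c) * n⁻¹ := by group
      _ = n * (c * (n⁻¹ * v * n)) * n⁻¹ := by rw [this]
      _ = n * c * n⁻¹ * v := by group
  let ψ : N → CV →* CV := fun n => MonoidHom.mk' (fun c => ⟨n * c * (n : G)⁻¹, hcN n n.2 c⟩)
    fun a b => Subtype.ext (by
      show (n : G) * ((a : G) * b) * (n : G)⁻¹ = (n : G) * a * (n : G)⁻¹ * ((n : G) * b * (n : G)⁻¹)
      rw [conj_mul])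
  let Vi : Subgroup (CV ⧸ (core t S).subgroupOf CV) := ((vee t S).subgroupOf CV).map π
  have hstep : ∀ n (hn : n ∈ N), ∀ c : CV, π (ψ ⟨n, hn⟩ c) / π c ∈ Vi := by
    intro n hn
    have hn' := hn
    rw [show N = _ from h.normalizer_eq] at hn'
    have hall : ∀ n ∈ closure ((CV : Set G) ∪ {c | ∃ x ∈ vee t S, x ≠ 1 ∧ c ∈ alt x ∧ c ∈ N}),
        ∃ hn : n ∈ N, ∀ c : CV, π (ψ ⟨n, hn⟩ c) / π c ∈ Vi := by
      intro n hn
      induction hn using closure_induction with
      | mem z hz =>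
        rcases hz with hz | ⟨x, hx, hx1, hz, hzN⟩
        · refine ⟨h.cv_le_normalizer hz, fun c => ?_⟩
          rw [show ψ ⟨z, h.cv_le_normalizer hz⟩ c = ⟨z, hz⟩ * c * (⟨z, hz⟩ : CV)⁻¹ from Subtype.ext rfl,
            map_mul, map_mul, map_inv, mul_right_comm, mul_inv_cancel, one_mul, div_self']
          exact one_mem _
        · refine ⟨hzN, fun c => ?_⟩
          obtain ⟨v, hv, -, hk⟩ := h.cv_split' hx hx1 c.2
          have hvC : v ∈ CV := mem_centralizer_iff.2 fun u hu => h.comm_V hu hv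
          have hzv : z * v * z⁻¹ ∈ CV := hcN z hzN ⟨v, hvC⟩
          have hkf : z * (v⁻¹ * (c : G)) * z⁻¹ = v⁻¹ * (c : G) := by
            rw [mem_centralizer_iff.1 (mem_inf.1 hk).2 z hz, mul_inv_cancel_right]
          refine ⟨⟨_, hzv⟩ * (⟨v, hvC⟩ : CV)⁻¹, ?_, ?_⟩
          · exact mem_subgroupOf.2 (mul_mem ((mem_normalizer_iff.1 hzN v).1 hv) (inv_mem hv))
          · rw [eq_div_iff_mul_eq', ← map_mul]
            refine congrArg π (Subtype.ext ?_)
            show z * v * z⁻¹ * v⁻¹ * (c : G) = z * (c : G) * z⁻¹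
            calc z * v * z⁻¹ * v⁻¹ * (c : G) = z * v * z⁻¹ * (v⁻¹ * (c : G)) := by group
              _ = z * v * z⁻¹ * (z * (v⁻¹ * (c : G)) * z⁻¹) := by rw [hkf]
              _ = z * (c : G) * z⁻¹ := by group
      | one =>
        refine ⟨one_mem _, fun c => ?_⟩
        rw [show ψ ⟨1, one_mem _⟩ c = c from Subtype.ext (by show 1 * (c : G) * 1⁻¹ = c; group), div_self']
        exact one_mem _
      | mul a b _ _ iha ihb =>
        obtain ⟨ha, iha⟩ := iha
        obtain ⟨hb, ihb⟩ := ihb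
        refine ⟨mul_mem ha hb, fun c => ?_⟩
        rw [show ψ ⟨a * b, mul_mem ha hb⟩ c = ψ ⟨a, ha⟩ (ψ ⟨b, hb⟩ c) from Subtype.ext (by
          show a * b * (c : G) * (a * b)⁻¹ = a * (b * (c : G) * b⁻¹) * a⁻¹; group),
          ← div_mul_div_cancel _ (π (ψ ⟨b, hb⟩ c)) _]
        exact mul_mem (iha _) (ihb c)
      | inv a _ iha =>
        obtain ⟨ha, iha⟩ := iha
        refine ⟨inv_mem ha, fun c => ?_⟩
        have := inv_mem (iha (ψ ⟨a⁻¹, inv_mem ha⟩ c))
        rwa [show ψ ⟨a, ha⟩ (ψ ⟨a⁻¹, inv_mem ha⟩ c) = c from Subtype.ext (by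
          show a * (a⁻¹ * (c : G) * a⁻¹⁻¹) * a⁻¹ = c; group), inv_div] at this
    obtain ⟨_, hres⟩ := hall n hn'
    exact hres
  -- average over the odd orbit
  set A := CV.subgroupOf N
  haveI : Fintype (N ⧸ A) := Fintype.ofFinite _
  have hodd : Odd (Fintype.card (N ⧸ A)) := by
    rw [← Nat.card_eq_fintype_card, ← Subgroup.index_eq_card, Nat.odd_iff, ← Nat.two_dvd_ne_zero]
    intro hd
    exact S.not_dvd_index (dvd_trans (dvd_trans hd (relIndex_dvd_of_le_left N h.S_le_cv))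
      (relIndex_dvd_index_of_le fun s hs => h.normalizer_of_S hs))
  let F : N ⧸ A → CV ⧸ (core t S).subgroupOf CV := fun q =>
    Quotient.liftOn' q (fun n => π (ψ n ⟨c₀, hc₀⟩)) (by
      intro a b hab
      rw [QuotientGroup.leftRel_apply] at hab
      obtain ⟨z, rfl⟩ : ∃ z : N, b = a * z := ⟨a⁻¹ * b, (mul_inv_cancel_left a b).symm⟩
      rw [inv_mul_cancel_left, mem_subgroupOf] at hab
      show π (ψ a ⟨c₀, hc₀⟩) = π (ψ (a * z) ⟨c₀, hc₀⟩)
      rw [show ψ (a * z) ⟨c₀, hc₀⟩ = ψ a (⟨z, hab⟩ * ⟨c₀, hc₀⟩ * (⟨z, hab⟩ : CV)⁻¹) from Subtype.ext (by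
        show ((a : G) * z) * c₀ * ((a : G) * z)⁻¹ = (a : G) * ((z : G) * c₀ * (z : G)⁻¹) * (a : G)⁻¹
        group), map_mul, map_mul, map_inv, map_mul, map_mul, map_inv, mul_right_comm, mul_inv_cancel,
        one_mul])
  set s := ∏ q, F q with hs
  have hsV : s / π ⟨c₀, hc₀⟩ ∈ Vi := by
    have h1 : s / π ⟨c₀, hc₀⟩ ^ Fintype.card (N ⧸ A) ∈ Vi := by
      rw [hs, ← Finset.card_univ, ← Finset.prod_const, ← Finset.prod_div_distrib]
      refine prod_mem fun q _ => ?_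
      induction q using QuotientGroup.induction_on with
      | _ n => exact hstep n n.2 _
    obtain ⟨k, hk⟩ := hodd
    rwa [hk, pow_succ, pow_mul, pow_two, ← map_mul,
      show π (⟨c₀, hc₀⟩ * ⟨c₀, hc₀⟩) = 1 from
        (QuotientGroup.eq_one_iff _).2 (mem_subgroupOf.2 (h.sq_mem_core hc₀)), one_pow, one_mul] at h1
  obtain ⟨⟨v, hvC⟩, hv, hπ⟩ := hsV
  refine ⟨v, mem_subgroupOf.1 hv, ?_⟩
  set c : CV := ⟨c₀, hc₀⟩ * ⟨v, hvC⟩
  have hcs : π c = s := by
    rw [show π c = π ⟨c₀, hc₀⟩ * π ⟨v, hvC⟩ from map_mul π _ _, hπ, mul_div_cancel]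
  have hfixed : ∀ a : N, π (ψ a c) = π c := by
    intro a
    let α := QuotientGroup.map ((core t S).subgroupOf CV) ((core t S).subgroupOf CV) (ψ a)
      (fun d hd => mem_comap.2 (mem_subgroupOf.2 (h.conj_mem_core a.2 (mem_subgroupOf.1 hd))))
    have h1 : π (ψ a c) = α (π c) := rfl
    rw [h1, hcs, hs, map_prod]
    refine Fintype.prod_equiv (MulAction.toPerm a) _ _ fun q => ?_
    induction q using QuotientGroup.induction_on with
    | _ n =>
      show π (ψ a (ψ n _)) = π (ψ (a * n) _)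
      refine congrArg π (Subtype.ext ?_)
      show (a : G) * ((n : G) * c₀ * (n : G)⁻¹) * (a : G)⁻¹ = (a : G) * n * c₀ * ((a : G) * n)⁻¹
      group
  refine mem_core.2 fun x hx hx1 => ?_
  obtain ⟨z, hz, hzN, hfix⟩ := h.exists_fpf' hx hx1
  obtain ⟨p, hp, hp', hk⟩ := h.cv_split' hx hx1 c.2
  have hmem : (c : G)⁻¹ * (z * (c : G) * z⁻¹) ∈ ker x := by
    have := mem_subgroupOf.1 (QuotientGroup.eq.1 (hfixed ⟨z, hzN⟩).symm)
    exact mem_core.1 this x hx hx1
  have hkf : z * (p⁻¹ * (c : G)) * z⁻¹ = p⁻¹ * (c : G) := by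
    rw [mem_centralizer_iff.1 (mem_inf.1 hk).2 z hz, mul_inv_cancel_right]
  have h2 : p⁻¹ * (z * p * z⁻¹) ∈ ker x := by
    have h3 := mul_mem (mul_mem hk hmem) (inv_mem hk)
    have h4 : z * p * z⁻¹ = z * (c : G) * z⁻¹ * (p⁻¹ * (c : G))⁻¹ := by
      conv_rhs => rw [← hkf]
      group
    rw [h4]
    convert h3 using 1
    group
  have hzp : z * p * z⁻¹ ∈ vee t S := (mem_normalizer_iff.1 hzN p).1 hp
  have h3 : p⁻¹ * (z * p * z⁻¹) ∈ alt x :=
    mul_mem (inv_mem hp') (mul_mem (mul_mem hz hp') (inv_mem hz))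
  obtain ⟨n, hn, e, he, hkn⟩ := h.exists_transport hx hx1
  have h4 := h.eq_one_of_ker_alt (he _ h3) (hkn _ h2)
  have h5 : p⁻¹ * (z * p * z⁻¹) = 1 := by
    calc p⁻¹ * (z * p * z⁻¹) = n * (n⁻¹ * (p⁻¹ * (z * p * z⁻¹)) * n) * n⁻¹ := by group
      _ = 1 := by rw [h4]; group
  have hp1 : p = 1 := hfix p hp hp' (inv_mul_eq_one.1 h5).symm
  rw [hp1, inv_one, one_mul] at hk
  exact hk

end Hyp

end CfsgLib.Involution.WeakClosureJ1
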