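import Cfsg.Agent.Lib.Involution.WeakClosureJ1.Basic

/-!
# All involutions of the Sylow piece are fused
-/

set_option autoImplicit false
set_option linter.style.haveILetI false
set_option linter.unusedSectionVars false

namespace CfsgLib.Involution.WeakClosureJ1

open Subgroup

universe u

variable {G : Type u} [Group G] [Finite G]

/-- The Sylow piece of the weak closure. -/
abbrev vee (t : G) (S : Sylow 2 G) : Subgroup G := (S : Subgroup G) ⊓ wcl t

theorem mem_normalizer_of {V : Subgroup G} {c : G} (hc : ∀ v ∈ V, c * v * c⁻¹ ∈ V) :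
    c ∈ normalizer (V : Set G) := by
  have hinj : Function.Injective (fun v : V => (⟨c * v * c⁻¹, hc v v.2⟩ : V)) := fun a b hab =>
    Subtype.ext (mul_left_cancel (mul_right_cancel (congrArg Subtype.val hab)))
  refine mem_normalizer_iff.2 fun v => ⟨hc v, fun hv => ?_⟩
  obtain ⟨w, hw⟩ := Finite.surjective_of_injective hinj ⟨_, hv⟩
  rw [← mul_left_cancel (mul_right_cancel (congrArg Subtype.val hw) : c * (w : G) = c * v)]
  exact w.2

namespace Hyp

variable {t : G} {S : Sylow 2 G} (h : Hyp t S)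
include h

theorem vee_le_centralizer : vee t S ≤ centralizer ({t} : Set G) := inf_le_right.trans (wcl_le t)

theorem exists_conj_vee {Q : Subgroup G} (hQ : Q ≤ wcl t) (h2 : IsPGroup 2 Q) :
    ∃ w ∈ wcl t, ∀ x ∈ Q, w * x * w⁻¹ ∈ vee t S := by
  haveI : Fact (Nat.Prime 2) := ⟨Nat.prime_two⟩
  set U := (vee t S).subgroupOf (wcl t)
  have hU : IsPGroup 2 U := (IsPGroup.to_le S.2 inf_le_left).comap_of_injective _ (wcl t).subtype_injective
  obtain ⟨P, hP⟩ := hU.exists_le_sylow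
  have heq : U = (P : Subgroup (wcl t)) := by
    refine eq_of_le_of_card_ge hP ?_
    rw [Nat.card_congr (subgroupOfEquivOfLe inf_le_right).toEquiv, h.card_V]
    obtain ⟨k, hk⟩ := IsPGroup.iff_card.1 P.2
    have hd := (P : Subgroup (wcl t)).card_subgroup_dvd_card
    rw [hk, h.card_wcl] at hd
    rw [hk]
    rcases Nat.lt_or_ge k 4 with hk4 | hk4
    · exact Nat.pow_le_pow_right two_pos (show k ≤ 3 by omega)
    · exact absurd ((pow_dvd_pow 2 hk4).trans hd) (by decide)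
  obtain ⟨w, hw⟩ := CfsgLib.Involution.Basic.exists_conj_le P
    (Q := Q.subgroupOf (wcl t)) (h2.comap_of_injective _ (wcl t).subtype_injective)
  refine ⟨w, w.2, fun x hx => ?_⟩
  have h1 := hw ⟨x, hQ hx⟩ (mem_subgroupOf.2 hx)
  change _ ∈ (P : Subgroup (wcl t)) at h1
  rw [← heq, mem_subgroupOf] at h1
  exact h1

theorem normalizer_of_S {s : G} (hs : s ∈ (S : Subgroup G)) : s ∈ normalizer (vee t S : Set G) :=
  mem_normalizer_of fun _ hv => mem_inf.2 ⟨mul_mem (mul_mem hs hv.1) (inv_mem hs),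
    h.normalises (h.Sc hs) hv.2⟩

theorem exists_cycle {a b : G} (ha : a ∈ vee t S ∧ a ∈ alt t ∧ a ≠ 1)
    (hb : b ∈ vee t S ∧ b ∈ alt t ∧ b ≠ 1) (hne : a ≠ b) :
    ∃ c ∈ alt t, c ∈ normalizer (vee t S : Set G) ∧ c * a * c⁻¹ = b ∧ c * b * c⁻¹ = a * b := by
  obtain ⟨f, hf, hr, -, -⟩ := h.exists_model
  obtain ⟨A, hA⟩ : a ∈ f.range := hr ▸ ha.2.1
  obtain ⟨B, hB⟩ : b ∈ f.range := hr ▸ hb.2.1
  have key : ∀ {x y : alternatingGroup (Fin 5)}, f x = f y → (x : Equiv.Perm (Fin 5)) = y :=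
    fun e => congrArg Subtype.val (hf e)
  obtain ⟨c, hc, hc1, hc2⟩ := four_cycle A A.2 (key (x := A * A) (y := 1) (by rw [map_mul, map_one, hA, h.sq_V ha.1]))
    (fun e => ha.2.2 (by rw [← hA, show A = 1 from Subtype.ext e, map_one]))
    B B.2 (key (x := B * B) (y := 1) (by rw [map_mul, map_one, hB, h.sq_V hb.1]))
    (fun e => hb.2.2 (by rw [← hB, show B = 1 from Subtype.ext e, map_one]))
    (key (x := A * B) (y := B * A) (by rw [map_mul, map_mul, hA, hB, h.comm_V ha.1 hb.1]))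
    (fun e => hne (by rw [← hA, ← hB, show A = B from Subtype.ext e]))
  set C : alternatingGroup (Fin 5) := ⟨c, hc⟩
  have e1 : f C * a * (f C)⁻¹ = b := by
    rw [← hA, ← hB, ← map_mul, ← map_inv, ← map_mul, show C * A * C⁻¹ = B from Subtype.ext hc1]
  have e2 : f C * b * (f C)⁻¹ = a * b := by
    conv_rhs => rw [← hA, ← hB, ← map_mul]
    rw [← hB, ← map_mul, ← map_inv, ← map_mul, show C * B * C⁻¹ = A * B from Subtype.ext hc2]
  have hCa : f C ∈ alt t := hr ▸ ⟨C, rfl⟩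
  refine ⟨f C, hCa, mem_normalizer_of fun v hv => ?_, e1, e2⟩
  have hfix : f C * t * (f C)⁻¹ = t := conj_fix (comm_wcl (h.alt_le hCa))
  have hfour : ∀ u ∈ vee t S, u ∈ alt t → f C * u * (f C)⁻¹ ∈ vee t S := by
    intro u hu hu'
    rcases h.four_gen ha hb hne hu hu' with rfl | rfl | rfl | rfl
    · rw [mul_one, mul_inv_cancel]; exact one_mem _
    · rw [e1]; exact hb.1
    · rw [e2]; exact mul_mem ha.1 hb.1
    · rw [← conj_mul, e1, e2]; exact mul_mem hb.1 (mul_mem ha.1 hb.1)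
  rcases h.split hv.2 with hv' | hv'
  · exact hfour v hv hv'
  · have h1 := mul_mem h.t_mem_V (hfour _ (mul_mem h.t_mem_V hv) hv')
    rwa [← conj_mul, hfix, ← mul_assoc, h.tt, one_mul] at h1

theorem spread {a b : G} (ha : a ∈ vee t S ∧ a ∈ alt t ∧ a ≠ 1)
    (hb : b ∈ vee t S ∧ b ∈ alt t ∧ b ≠ 1) :
    ∃ c ∈ alt t, c ∈ normalizer (vee t S : Set G) ∧ c * a * c⁻¹ = b := by
  by_cases hne : a = b
  · exact ⟨1, one_mem _, one_mem _, by rw [hne]; group⟩
  · obtain ⟨c, h1, h2, h3, -⟩ := h.exists_cycle ha hb hne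
    exact ⟨c, h1, h2, h3⟩

theorem isConj_alt {a b : G} (ha : a ∈ vee t S ∧ a ∈ alt t ∧ a ≠ 1)
    (hb : b ∈ vee t S ∧ b ∈ alt t ∧ b ≠ 1) (hc : IsConj t a) : IsConj t b := by
  obtain ⟨c, -, -, e⟩ := h.spread ha hb
  exact hc.trans (isConj_iff.2 ⟨c, e⟩)

theorem isConj_talt {a b : G} (ha : a ∈ vee t S ∧ a ∈ alt t ∧ a ≠ 1)
    (hb : b ∈ vee t S ∧ b ∈ alt t ∧ b ≠ 1) (hc : IsConj t (t * a)) : IsConj t (t * b) := by
  obtain ⟨c, hcE, -, e⟩ := h.spread ha hb
  refine hc.trans (isConj_iff.2 ⟨c, ?_⟩)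
  rw [← conj_mul, conj_fix (comm_wcl (h.alt_le hcE)), e]

theorem vee_le_wcl {x : G} (hx : x ∈ vee t S) (hc : IsConj t x) : vee t S ≤ wcl x := by
  by_cases hxt : x = t
  · subst hxt; exact inf_le_right
  have hmem : ∀ v ∈ vee t S, IsConj t v → v ∈ wcl x :=
    fun v hv hv' => mem_wcl_of (hc.symm.trans hv') (h.comm_V hv hx)
  have ht := hmem t h.t_mem_V (IsConj.refl t)
  intro v hv
  rcases h.split hx.2 with hx' | hx'
  · have ha : x ∈ vee t S ∧ x ∈ alt t ∧ x ≠ 1 := ⟨hx, hx', fun e => h.t1 (isConj_one_left.1 (e ▸ hc))⟩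
    have hall : ∀ b ∈ vee t S, b ∈ alt t → b ∈ wcl x := fun b hb hb' => by
      by_cases hb1 : b = 1
      · rw [hb1]; exact one_mem _
      · exact hmem b hb (h.isConj_alt ha ⟨hb, hb', hb1⟩ hc)
    rcases h.split hv.2 with hv' | hv'
    · exact hall v hv hv'
    · exact (mul_mem_cancel_left ht).1 (hall _ (mul_mem h.t_mem_V hv) hv')
  · have ha : t * x ∈ vee t S ∧ t * x ∈ alt t ∧ t * x ≠ 1 := ⟨mul_mem h.t_mem_V hx, hx',
      fun e => hxt (by rw [← inv_eq_of_mul_eq_one_right e, inv_eq_of_mul_eq_one_right h.tt])⟩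
    have hc' : IsConj t (t * (t * x)) := by rwa [← mul_assoc, h.tt, one_mul]
    have hall : ∀ b ∈ vee t S, b ∈ alt t → b ∈ wcl x := fun b hb hb' => by
      by_cases hb1 : b = 1
      · rw [hb1]; exact one_mem _
      · exact (mul_mem_cancel_left ht).1
          (hmem _ (mul_mem h.t_mem_V hb) (h.isConj_talt ha ⟨hb, hb', hb1⟩ hc'))
    rcases h.split hv.2 with hv' | hv'
    · exact hall v hv hv'
    · exact (mul_mem_cancel_left ht).1 (hall _ (mul_mem h.t_mem_V hv) hv')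

theorem exists_norm {x : G} (hx : x ∈ vee t S) (hc : IsConj t x) :
    ∃ n ∈ normalizer (vee t S : Set G), n * t * n⁻¹ = x := by
  obtain ⟨g, hg⟩ := isConj_iff.1 hc
  -- the Sylow piece transported to `wcl t`
  let Q := (vee t S).map (MulAut.conj g⁻¹).toMonoidHom
  have hgx : g⁻¹ * x * g = t := by rw [← hg]; group
  have hQ : Q ≤ wcl t := by
    rintro _ ⟨v, hv, rfl⟩
    have := conj_mem_wcl g⁻¹ (h.vee_le_wcl hx hc hv)
    simp only [inv_inv] at this
    rw [hgx] at this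
    simpa using this
  have hp : IsPGroup 2 Q := (IsPGroup.to_le S.2 inf_le_left).map _
  obtain ⟨w, hw, hwv⟩ := h.exists_conj_vee hQ hp
  refine ⟨g * w⁻¹, ?_, ?_⟩
  · rw [show g * w⁻¹ = (w * g⁻¹)⁻¹ by group]
    refine inv_mem (mem_normalizer_of fun v hv => ?_)
    have := hwv _ ⟨v, hv, rfl⟩
    simp only [MulEquiv.coe_toMonoidHom, MulAut.conj_apply, inv_inv] at this
    rwa [show w * g⁻¹ * v * (w * g⁻¹)⁻¹ = w * (g⁻¹ * v * g) * w⁻¹ by group]
  · calc g * w⁻¹ * t * (g * w⁻¹)⁻¹ = g * (w⁻¹ * t * w) * g⁻¹ := by group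
      _ = g * t * g⁻¹ := by
        rw [show w⁻¹ * t * w = t by rw [mul_assoc, ← comm_wcl hw, inv_mul_cancel_left]]
      _ = x := hg

theorem exists_other : ∃ x ∈ vee t S, IsConj t x ∧ x ≠ t := by
  haveI : Fact (Nat.Prime 2) := ⟨Nat.prime_two⟩
  obtain ⟨y, ⟨g, hy, hc⟩, hne⟩ : ∃ y ∈ {x | ∃ g : G, x = g * t * g⁻¹ ∧ x * t = t * x}, y ≠ t := by
    by_contra hne
    push Not at hne
    have hle : wcl t ≤ zpowers t := (closure_le _).2 fun y hy => by
      rw [hne y hy]; exact mem_zpowers t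
    have h1 := Nat.le_of_dvd (by rw [Nat.card_zpowers]; exact orderOf_pos t) (card_dvd_of_le hle)
    rw [h.card_wcl, Nat.card_zpowers, orderOf_eq_prime (by rw [pow_two, h.tt]) h.t1] at h1
    omega
  have hyw : y ∈ wcl t := subset_closure ⟨g, hy, hc⟩
  have hy2 : y * y = 1 := by rw [hy, conj_mul, h.tt, mul_one, mul_inv_cancel]
  have hp : IsPGroup 2 (zpowers y) := by
    rcases (Nat.dvd_prime Nat.prime_two).1 (orderOf_dvd_of_pow_eq_one (show y ^ 2 = 1 by rw [pow_two, hy2])) with e | e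
    · exact IsPGroup.of_card (n := 0) (by rw [Nat.card_zpowers, e]; rfl)
    · exact IsPGroup.of_card (n := 1) (by rw [Nat.card_zpowers, e, pow_one])
  obtain ⟨w, hw, hwv⟩ := h.exists_conj_vee (zpowers_le.2 hyw) hp
  refine ⟨_, hwv y (mem_zpowers y), (isConj_iff.2 ⟨g, hy.symm⟩).trans (isConj_iff.2 ⟨w, rfl⟩), fun e => hne ?_⟩
  calc y = w⁻¹ * (w * y * w⁻¹) * w := by group
    _ = t := by rw [e, mul_assoc, ← comm_wcl hw, inv_mul_cancel_left]

theorem stab_relIndex :
    (centralizer ({t} : Set G) ⊓ normalizer (vee t S : Set G)).relIndex (normalizer (vee t S : Set G)) =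
      Nat.card {v : G // v ∈ vee t S ∧ IsConj t v} := by
  set N := normalizer (vee t S : Set G)
  set A := (centralizer ({t} : Set G) ⊓ N).subgroupOf N
  let f : N ⧸ A → {v : G // v ∈ vee t S ∧ IsConj t v} := fun q =>
    ⟨(q.out : G) * t * (q.out : G)⁻¹, (mem_normalizer_iff.1 q.out.2 t).1 h.t_mem_V,
      isConj_iff.2 ⟨_, rfl⟩⟩
  have hA : ∀ n : N, n ∈ A ↔ (n : G) * t = t * n := fun n => by
    rw [mem_subgroupOf, mem_inf, mem_centralizer_singleton_iff]
    exact and_iff_left n.2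
  have hbij : Function.Bijective f := by
    constructor
    · intro p q hpq
      have e : (p.out : G) * t * (p.out : G)⁻¹ = (q.out : G) * t * (q.out : G)⁻¹ := congrArg Subtype.val hpq
      rw [← QuotientGroup.out_eq' p, ← QuotientGroup.out_eq' q, QuotientGroup.eq, hA]
      show (p.out : G)⁻¹ * (q.out : G) * t = t * ((p.out : G)⁻¹ * (q.out : G))
      calc (p.out : G)⁻¹ * (q.out : G) * t
          = (p.out : G)⁻¹ * ((q.out : G) * t * (q.out : G)⁻¹) * (q.out : G) := by group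
        _ = (p.out : G)⁻¹ * ((p.out : G) * t * (p.out : G)⁻¹) * (q.out : G) := by rw [e]
        _ = t * ((p.out : G)⁻¹ * (q.out : G)) := by group
    · rintro ⟨v, hv, hc⟩
      obtain ⟨n, hn, e⟩ := h.exists_norm hv hc
      refine ⟨QuotientGroup.mk (⟨n, hn⟩ : N), Subtype.ext ?_⟩
      obtain ⟨⟨a, ha⟩, ha'⟩ := QuotientGroup.mk_out_eq_mul A (⟨n, hn⟩ : N)
      show ((QuotientGroup.mk (⟨n, hn⟩ : N) : N ⧸ A).out : G) * t * _ = v
      rw [ha']
      show n * (a : G) * t * (n * (a : G))⁻¹ = v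
      rw [← e]
      calc n * (a : G) * t * (n * (a : G))⁻¹ = n * ((a : G) * t * (a : G)⁻¹) * n⁻¹ := by group
        _ = n * t * n⁻¹ := by rw [conj_fix ((hA a).1 ha)]
  exact Nat.card_congr (Equiv.ofBijective f hbij)

/-- All involutions of the Sylow piece are conjugate to `t`. -/
theorem all_conj {v : G} (hv : v ∈ vee t S) (hv1 : v ≠ 1) : IsConj t v := by
  haveI : Fact (Nat.Prime 2) := ⟨Nat.prime_two⟩
  obtain ⟨a₀, b₀, ha₀, hb₀, hne₀⟩ := h.exists_four
  -- it suffices that both kinds occur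
  suffices hboth : IsConj t a₀ ∧ IsConj t (t * a₀) by
    rcases h.split hv.2 with hv' | hv'
    · exact h.isConj_alt ha₀ ⟨hv, hv', hv1⟩ hboth.1
    · by_cases hvt : t * v = 1
      · rw [show v = t by rw [← inv_eq_of_mul_eq_one_right hvt, inv_eq_of_mul_eq_one_right h.tt]]
      · have := h.isConj_talt ha₀ ⟨mul_mem h.t_mem_V hv, hv', hvt⟩ hboth.2
        rwa [← mul_assoc, h.tt, one_mul] at this
  obtain ⟨x, hx, hxc, hxt⟩ := h.exists_other
  have hx1 : x ≠ 1 := fun e => h.t1 (isConj_one_left.1 (e ▸ hxc))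
  by_cases hA : IsConj t a₀
  · -- only the inner kind: a line would go to a non-line
    refine ⟨hA, ?_⟩
    by_contra hB
    obtain ⟨n, hn, hnt⟩ := h.exists_norm ha₀.1 hA
    have hin : ∀ u, u ∈ vee t S → IsConj t u → u = t ∨ u = a₀ ∨ u = b₀ ∨ u = a₀ * b₀ := by
      intro u hu hc
      have hu1 : u ≠ 1 := fun e => h.t1 (isConj_one_left.1 (e ▸ hc))
      rcases h.split hu.2 with hu' | hu'
      · rcases h.four_gen ha₀ hb₀ hne₀ hu hu' with e | e | e | e
        · exact absurd e hu1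
        all_goals simp [e]
      · left
        by_contra hut
        refine hB (h.isConj_talt ⟨mul_mem h.t_mem_V hu, hu', fun e => hut ?_⟩ ha₀ ?_)
        · rw [← inv_eq_of_mul_eq_one_right e, inv_eq_of_mul_eq_one_right h.tt]
        · rwa [← mul_assoc, h.tt, one_mul]
    have himg : ∀ u, u ∈ vee t S → u ∈ alt t → u ≠ 1 →
        n * u * n⁻¹ = t ∨ n * u * n⁻¹ = b₀ ∨ n * u * n⁻¹ = a₀ * b₀ := by
      intro u hu hu' hu1
      rcases hin _ ((mem_normalizer_iff.1 hn u).1 hu)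
        ((h.isConj_alt ha₀ ⟨hu, hu', hu1⟩ hA).trans (isConj_iff.2 ⟨n, rfl⟩)) with e | e | e | e
      · exact Or.inl e
      · exfalso
        rw [← hnt] at e
        have e' : u = t := mul_left_cancel (mul_right_cancel e)
        exact h.t_notin (e' ▸ hu')
      · exact Or.inr (Or.inl e)
      · exact Or.inr (Or.inr e)
    have hab1 : a₀ * b₀ ≠ 1 := fun e => hne₀ (by
      rw [← inv_eq_of_mul_eq_one_right e, inv_eq_of_mul_eq_one_right (h.sq_V ha₀.1)])
    have hab0 : a₀ * b₀ ≠ a₀ := fun e => hb₀.2.2 (mul_eq_left.1 e)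
    have hab0' : a₀ * b₀ ≠ b₀ := fun e => ha₀.2.2 (mul_eq_right.1 e)
    have hb_ab : b₀ * (a₀ * b₀) = a₀ := by
      rw [h.comm_V ha₀.1 hb₀.1, ← mul_assoc, h.sq_V hb₀.1, one_mul]
    have hsplit : ∀ p q r : G, n * p * n⁻¹ = q → n * r * n⁻¹ = q → p = r := fun p q r e e' =>
      mul_left_cancel (mul_right_cancel (e.trans e'.symm))
    have hP : n * a₀ * n⁻¹ * (n * b₀ * n⁻¹) = n * (a₀ * b₀) * n⁻¹ := conj_mul
    have h12 : ¬ ∃ q, n * a₀ * n⁻¹ = q ∧ n * b₀ * n⁻¹ = q := fun ⟨q, e, e'⟩ => hne₀ (hsplit _ q _ e e')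
    have hT : ∀ e ∈ alt t, t * e ∈ alt t → False := fun e he hte => h.t_notin ((mul_mem_cancel_right he).1 hte)
    have hTne : ∀ e ∈ alt t, t ≠ e := fun e he h' => h.t_notin (h' ▸ he)
    have hab : a₀ * b₀ ∈ alt t := mul_mem ha₀.2.1 hb₀.2.1
    rcases himg a₀ ha₀.1 ha₀.2.1 ha₀.2.2 with e1 | e1 | e1 <;>
      rcases himg b₀ hb₀.1 hb₀.2.1 hb₀.2.2 with e2 | e2 | e2 <;>
      rcases himg _ (mul_mem ha₀.1 hb₀.1) hab hab1 with e3 | e3 | e3 <;>
      rw [e1, e2, e3] at hP <;>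
      first
        | exact h12 ⟨_, e1, e2⟩
        | exact hab0 (hsplit _ _ _ e3 e1)
        | exact hab0' (hsplit _ _ _ e3 e2)
        | exact hT _ hb₀.2.1 (by rw [hP]; exact hab)
        | exact hT _ hb₀.2.1 (by rw [← comm_wcl (h.alt_le hb₀.2.1), hP]; exact hab)
        | exact hT _ hab (by rw [hP]; exact hb₀.2.1)
        | exact hT _ hab (by rw [← comm_wcl (h.alt_le hab), hP]; exact hb₀.2.1)
        | exact hTne _ ha₀.2.1 (hP.symm.trans hb_ab)
        | exact hTne _ ha₀.2.1 (hP.symm.trans ((h.comm_V (mul_mem ha₀.1 hb₀.1) hb₀.1).trans hb_ab))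
  · -- only the outer kind: the orbit would be even
    exfalso
    have hset : ∀ u, (u ∈ vee t S ∧ IsConj t u) ↔ (u ∈ vee t S ∧ t * u ∈ alt t) := by
      intro u
      constructor
      · rintro ⟨hu, hc⟩
        refine ⟨hu, ?_⟩
        rcases h.split hu.2 with hu' | hu'
        · exact absurd (h.isConj_alt ⟨hu, hu', fun e => h.t1 (isConj_one_left.1 (e ▸ hc))⟩ ha₀ hc) hA
        · exact hu'
      · rintro ⟨hu, hu'⟩
        refine ⟨hu, ?_⟩
        by_cases hut : t * u = 1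
        · rw [show u = t by rw [← inv_eq_of_mul_eq_one_right hut, inv_eq_of_mul_eq_one_right h.tt]]
        have hxB : t * x ∈ alt t := (h.split hx.2).resolve_left fun hx' =>
          hA (h.isConj_alt ⟨hx, hx', hx1⟩ ha₀ hxc)
        have hx1' : t * x ≠ 1 := fun e => hxt (by
          rw [← inv_eq_of_mul_eq_one_right e, inv_eq_of_mul_eq_one_right h.tt])
        have := h.isConj_talt ⟨mul_mem h.t_mem_V hx, hxB, hx1'⟩ ⟨mul_mem h.t_mem_V hu, hu', hut⟩
          (by rwa [← mul_assoc, h.tt, one_mul])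
        rwa [← mul_assoc, h.tt, one_mul] at this
    let e : {v : G // v ∈ vee t S ∧ IsConj t v} ≃ (vee t S ⊓ alt t : Subgroup G) :=
      { toFun := fun u => ⟨t * u, mul_mem h.t_mem_V u.2.1, ((hset u).1 u.2).2⟩
        invFun := fun a => ⟨t * a, (hset _).2 ⟨mul_mem h.t_mem_V a.2.1, by
          rw [← mul_assoc, h.tt, one_mul]; exact a.2.2⟩⟩
        left_inv := fun u => Subtype.ext (by show t * (t * (u : G)) = u; rw [← mul_assoc, h.tt, one_mul])
        right_inv := fun a => Subtype.ext (by show t * (t * (a : G)) = a; rw [← mul_assoc, h.tt, one_mul]) }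
    have h4 := h.stab_relIndex
    rw [Nat.card_congr e, h.card_four] at h4
    refine S.not_dvd_index (dvd_trans ?_ (relIndex_dvd_index_of_le
      (H := (S : Subgroup G)) (K := normalizer (vee t S : Set G)) fun s hs => h.normalizer_of_S hs))
    have hd := relIndex_dvd_of_le_left (normalizer (vee t S : Set G))
      (le_inf h.Sc fun s hs => h.normalizer_of_S hs :
        (S : Subgroup G) ≤ centralizer ({t} : Set G) ⊓ normalizer (vee t S : Set G))
    rw [h4] at hd
    exact dvd_trans (by norm_num) hd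

theorem card_orbit : Nat.card {v : G // v ∈ vee t S ∧ IsConj t v} = 7 := by
  classical
  let e : {v : G // v ∈ vee t S ∧ IsConj t v} ≃ {v : vee t S // v ≠ 1} :=
    { toFun := fun u => ⟨⟨u, u.2.1⟩, fun e => h.t1 (isConj_one_left.1 (by
        have e' : (u : G) = 1 := congrArg Subtype.val e
        exact e' ▸ u.2.2))⟩
      invFun := fun u => ⟨u.1, u.1.2, h.all_conj u.1.2 fun e => u.2 (Subtype.ext e)⟩
      left_inv := fun u => rfl
      right_inv := fun u => rfl }
  haveI := Fintype.ofFinite (vee t S)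
  rw [Nat.card_congr e, Nat.card_eq_fintype_card, Fintype.card_subtype_compl, Fintype.card_subtype_eq,
    ← Nat.card_eq_fintype_card, h.card_V]

end Hyp

end CfsgLib.Involution.WeakClosureJ1
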