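import Cfsg.Agent.Lib.KnownA.J1Facts
import Cfsg.Agent.Lib.J1.Orders
import Cfsg.Agent.Lib.FTApps.RealGraph.Basic
import Cfsg.Agent.Lib.Solvable.Hall
import Mathlib.GroupTheory.IndexNormal

/-!
# `J_1` has no subgroup of odd order divisible by `1463`
-/

set_option autoImplicit false
set_option linter.style.haveILetI false

namespace CfsgLib.Involution.WeakClosureJ1

open Subgroup

theorem exists_orderOf_seventyseven {L : Type*} [Group L] [Finite L] (hL : Nat.card L = 77) :
    ∃ g : L, orderOf g = 77 := by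
  haveI : Fact (Nat.Prime 11) := ⟨by norm_num⟩
  haveI : Fact (Nat.Prime 7) := ⟨by norm_num⟩
  obtain ⟨a, ha⟩ := exists_prime_orderOf_dvd_card' (G := L) 11 (by rw [hL]; norm_num)
  obtain ⟨b, hb⟩ := exists_prime_orderOf_dvd_card' (G := L) 7 (by rw [hL]; norm_num)
  set A := zpowers a
  haveI : A.Normal := normal_of_index_eq_minFac_card (by
    have h1 := A.card_mul_index
    rw [Nat.card_zpowers, ha, hL] at h1
    rw [hL, show A.index = 7 by omega]
    norm_num)
  let φ : L →* MulAut A := MulAut.conjNormal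
  have h7 : orderOf (φ b) ∣ 7 := hb ▸ orderOf_map_dvd φ b
  have h10 : orderOf (φ b) ∣ 10 := by
    have h2 := orderOf_dvd_natCard (φ b)
    rwa [IsCyclic.card_mulAut, Nat.card_zpowers, ha, Nat.totient_prime (by norm_num)] at h2
  have h1 : φ b = 1 := by
    rw [← orderOf_eq_one_iff]
    have := Nat.dvd_gcd h7 h10
    simpa using this
  have hcomm : Commute b a := by
    have h2 := congrArg Subtype.val (DFunLike.congr_fun h1 (⟨a, mem_zpowers a⟩ : A))
    rw [MulAut.conjNormal_apply] at h2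
    exact mul_inv_eq_iff_eq_mul.1 h2
  exact ⟨b * a, by rw [hcomm.orderOf_mul_eq_mul_orderOf_of_coprime (by rw [ha, hb]; norm_num), ha, hb]⟩

theorem no_odd_subgroup (K : Subgroup Cfsg.Spor.J1) (hodd : Odd (Nat.card K))
    (hdvd : 1463 ∣ Nat.card K) : False := by
  haveI := CfsgLib.SmallGroups.J1Order.finite_J1
  haveI : Group.IsSolvable K := CfsgLib.FTApps.RealGraph.solvable_of_odd hodd
  obtain ⟨j, hj⟩ := hdvd
  have h1 := K.card_subgroup_dvd_card
  rw [CfsgLib.KnownA.J1Facts.card_J1, hj, show 175560 = 1463 * 120 by norm_num] at h1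
  have hj120 : j ∣ 120 := Nat.dvd_of_mul_dvd_mul_left (by norm_num) h1
  obtain ⟨L, hL⟩ := CfsgLib.Solvable.Hall.exists_card_eq (G := K) (m := 77) (n := 19 * j)
    (by rw [hj]; ring) (Nat.Coprime.mul_right (by norm_num) (Nat.Coprime.coprime_dvd_right hj120 (by norm_num)))
  obtain ⟨g, hg⟩ := exists_orderOf_seventyseven hL
  obtain ⟨n, hn, hd⟩ := CfsgLib.J1.orderOf_dvd ((g : K) : Cfsg.Spor.J1)
  rw [Subgroup.orderOf_coe, Subgroup.orderOf_coe, hg] at hd
  simp only [List.mem_cons, List.not_mem_nil, or_false] at hn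
  rcases hn with rfl | rfl | rfl | rfl | rfl | rfl <;> norm_num at hd

end CfsgLib.Involution.WeakClosureJ1
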