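import Cfsg.Agent.Lib.Involution.WeakClosureJ1.Quasi
import Cfsg.Agent.Lib.Involution.WeakClosureJ1.NoOdd
import Cfsg.Agent.S1225

/-!
# The normal closure of a two-central involution with weak closure `2 × A_5` is `J_1`
-/

set_option autoImplicit false
set_option linter.style.haveILetI false
set_option linter.unusedSectionVars false

namespace CfsgLib.Involution.WeakClosureJ1

open Subgroup
open scoped commutatorElement

universe u

variable {G : Type u} [Group G] [Finite G] {t : G} {S : Sylow 2 G}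

theorem Hyp.wcl_le_of (h : Hyp t S) {L : Subgroup G} {x : G} (hx : IsConj t x)
    (hL : ∀ y, IsConj t y → y * x = x * y → y ∈ L) : wcl x ≤ L :=
  (closure_le _).2 fun _ ⟨g, hy, hc⟩ => hL _ (hx.trans (isConj_iff.2 ⟨g, hy.symm⟩)) hc

theorem Hyp.alt_le_of (h : Hyp t S) {L : Subgroup G} {x : G} (hx : x ∈ vee t S) (hx1 : x ≠ 1)
    (hL : ∀ y, IsConj t y → y * x = x * y → y ∈ L) : alt x ≤ L := by
  obtain ⟨n, hn, e, he, -⟩ := h.exists_transport hx hx1
  refine le_trans ?_ (h.wcl_le_of (h.all_conj hx hx1) hL)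
  intro v hv
  have := conj_mem_wcl n (h.alt_le (he v hv))
  rwa [e, show n * (n⁻¹ * v * n) * n⁻¹ = v by group] at this

/-- Passing to a subgroup. -/
theorem Hyp.restrict (h : Hyp t S) {L : Subgroup G} (hW : wcl t ≤ L)
    (hE : ∀ x ∈ vee t S, x ≠ 1 → alt x ≤ L) (R : Sylow 2 L)
    (hR : (R : Subgroup L) = (S : Subgroup G).subgroupOf L) :
    Hyp (⟨t, hW (self_mem_wcl t)⟩ : L) R ∧
      (wcl (⟨t, hW (self_mem_wcl t)⟩ : L)).map L.subtype = wcl t := by
  set tL : L := ⟨t, hW (self_mem_wcl t)⟩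
  have hmap : (wcl tL).map L.subtype = wcl t := by
    refine le_antisymm ?_ ?_
    · rw [wcl, MonoidHom.map_closure, closure_le]
      rintro _ ⟨y, ⟨g, rfl, hc⟩, rfl⟩
      exact mem_wcl_of (isConj_iff.2 ⟨(g : G), rfl⟩) (congrArg Subtype.val hc)
    · refine (closure_le _).2 ?_
      rintro y ⟨g, hy, hc⟩
      have hyW : y ∈ wcl t := subset_closure ⟨g, hy, hc⟩
      have hyc : IsConj t y := isConj_iff.2 ⟨g, hy.symm⟩
      obtain ⟨w, hw, hwv⟩ := h.exists_conj_vee (zpowers_le.2 hyW) (Q := zpowers y) (by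
        refine IsPGroup.of_card (p := 2) (n := 1) ?_
        rw [Nat.card_zpowers, pow_one]
        refine orderOf_eq_prime ?_ ?_
        · rw [hy, pow_two, conj_mul, h.tt, mul_one, mul_inv_cancel]
        · exact fun e => h.t1 (isConj_one_left.1 (e ▸ hyc)))
      obtain ⟨l, hl, -, hlt⟩ := h.exists_conj_in L hE (hwv y (mem_zpowers y))
        fun e => h.t1 (isConj_one_left.1 (conj_eq_one_iff.1 e ▸ hyc))
      refine ⟨⟨y, hW hyW⟩, mem_wcl_of (isConj_iff.2 ⟨⟨w, hW hw⟩⁻¹ * ⟨l, hl⟩, ?_⟩) (Subtype.ext hc), rfl⟩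
      refine Subtype.ext ?_
      show w⁻¹ * l * t * (w⁻¹ * l)⁻¹ = y
      calc w⁻¹ * l * t * (w⁻¹ * l)⁻¹ = w⁻¹ * (l * t * l⁻¹) * w := by group
        _ = y := by rw [hlt]; group
  refine ⟨⟨Subtype.ext h.tt, fun e => h.t1 (congrArg Subtype.val e), ?_, fun s hs => ?_, ?_⟩, hmap⟩
  · rw [hR, mem_subgroupOf]; exact h.tS
  · rw [hR, mem_subgroupOf] at hs
    exact mem_centralizer_singleton_iff.2 (Subtype.ext (mem_centralizer_singleton_iff.1 (h.Sc hs)))
  · obtain ⟨e⟩ := h.iso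
    exact ⟨(((wcl tL).equivMapOfInjective L.subtype L.subtype_injective).trans
      (MulEquiv.subgroupCongr hmap)).trans e⟩

/-- The perfect case. -/
theorem isoJ1_of_gen (h : Hyp t S) (h8 : Nat.card (S : Subgroup G) = 8)
    (hperf : commutator G = ⊤) (hgen : normalClosure ({t} : Set G) = ⊤) : Cfsg.Spor.IsoJ1 G := by
  haveI : Fact (Nat.Prime 2) := ⟨Nat.prime_two⟩
  have hvS := h.vee_eq_S h8
  set D := core t S
  set H := normalizer (D : Set G)
  have hCH : centralizer ({t} : Set G) ≤ H := fun c hc =>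
    mem_normalizer_of fun d hd => h.conj_mem_core_C hc hd
  have hNH : normalizer (vee t S : Set G) ≤ H := fun n hn =>
    mem_normalizer_of fun d hd => h.conj_mem_core hn hd
  have hSH : (S : Subgroup G) ≤ H := fun s hs => hCH (h.Sc hs)
  -- one class of involutions in `H`
  have hone : ∀ v ∈ H, v * v = 1 → v ≠ 1 → ∃ k ∈ H, k * t * k⁻¹ = v := by
    intro v hv hv2 hv1
    obtain ⟨k, hk⟩ := CfsgLib.Involution.Basic.exists_conj_le (S.subtype hSH)
      (Q := (zpowers v).subgroupOf H) ((IsPGroup.of_card (n := 1) (by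
        rw [Nat.card_zpowers, pow_one, orderOf_eq_prime (by rw [pow_two, hv2]) hv1])).comap_of_injective _
          H.subtype_injective)
    have hm : (k : G) * v * (k : G)⁻¹ ∈ vee t S := hvS ▸ hk ⟨v, hv⟩ (mem_subgroupOf.2 (mem_zpowers v))
    obtain ⟨n, hn, e⟩ := h.exists_norm hm (h.all_conj hm fun e => hv1 (conj_eq_one_iff.1 e))
    refine ⟨(k : G)⁻¹ * n, mul_mem (inv_mem k.2) (hNH hn), ?_⟩
    calc (k : G)⁻¹ * n * t * ((k : G)⁻¹ * n)⁻¹ = (k : G)⁻¹ * (n * t * n⁻¹) * k := by group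
      _ = v := by rw [e]; group
  by_cases hH : H = ⊤
  · -- the factor is central
    refine isoJ1_of_perfect h h8 hperf hgen fun c hc => ?_
    obtain ⟨d, hd, w, hw, rfl⟩ := h.centralizer_decomp hc
    refine ⟨w, hw, ?_⟩
    rw [mul_inv_cancel_right]
    have hle : normalClosure ({t} : Set G) ≤ centralizer ({d} : Set G) := by
      rw [normalClosure, closure_le]
      intro y hy
      obtain ⟨a, ha, hay⟩ := Group.mem_conjugatesOfSet_iff.1 hy
      rw [Set.mem_singleton_iff] at ha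
      subst a
      obtain ⟨g, rfl⟩ := isConj_iff.1 hay
      have hd' : g⁻¹ * d * g ∈ D := by
        have := (mem_normalizer_iff.1 (hH ▸ mem_top g⁻¹ : g⁻¹ ∈ H) d).1 hd
        rwa [inv_inv] at this
      have e := h.core_comm_wcl hd' (self_mem_wcl t)
      refine mem_centralizer_singleton_iff.2 ?_
      calc g * t * g⁻¹ * d = g * (t * (g⁻¹ * d * g)) * g⁻¹ := by group
        _ = g * (g⁻¹ * d * g * t) * g⁻¹ := by rw [e]
        _ = d * (g * t * g⁻¹) := by group
    rw [hgen] at hle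
    exact mem_center_iff.2 fun y => mem_centralizer_singleton_iff.1 (hle (mem_top y))
  exfalso
  -- `H` is strongly embedded
  have hSE : Cfsg.IsStronglyEmbedded H := by
    refine ⟨hH, even_iff_two_dvd.2 ?_, fun g hg => ?_⟩
    · have := Subgroup.orderOf_dvd_natCard H (hCH (mem_centralizer_singleton_iff.2 rfl) : t ∈ H)
      rwa [orderOf_eq_prime (by rw [pow_two, h.tt]) h.t1] at this
    rw [← Nat.not_even_iff_odd]
    intro he
    obtain ⟨v, hv⟩ := exists_prime_orderOf_dvd_card' (G := (H ⊓ H.map (MulAut.conj g).toMonoidHom : Subgroup G)) 2 he.two_dvd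
    have hv2 : (v : G) * v = 1 := by rw [← pow_two, ← hv, ← Subgroup.orderOf_coe, pow_orderOf_eq_one]
    have hv1 : (v : G) ≠ 1 := fun e => by rw [← Subgroup.orderOf_coe, e, orderOf_one] at hv; omega
    obtain ⟨v', hv', hvv⟩ := (mem_inf.1 v.2).2
    have hgv : g * v' * g⁻¹ = (v : G) := hvv
    obtain ⟨k, hk, hkv⟩ := hone _ (mem_inf.1 v.2).1 hv2 hv1
    obtain ⟨k', hk', hkv'⟩ := hone v' hv' (by
      rw [show v' = g⁻¹ * (v : G) * g by rw [← hgv]; group,
        show g⁻¹ * (v : G) * g * (g⁻¹ * (v : G) * g) = g⁻¹ * ((v : G) * v) * g by group, hv2]; group)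
      (fun e => hv1 (by rw [← hgv, e]; group))
    apply hg
    have hC : k⁻¹ * (g * k') ∈ centralizer ({t} : Set G) := mem_centralizer_singleton_iff.2 (by
      calc k⁻¹ * (g * k') * t = k⁻¹ * (g * (k' * t * k'⁻¹) * g⁻¹) * (g * k') := by group
        _ = k⁻¹ * (k * t * k⁻¹) * (g * k') := by rw [hkv', hgv, hkv]
        _ = t * (k⁻¹ * (g * k')) := by group)
    have h2 := mul_mem (mul_mem hk (hCH hC)) (inv_mem hk')
    rwa [show k * (k⁻¹ * (g * k')) * k'⁻¹ = g by group] at h2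
  obtain ⟨u, hu, huH⟩ : ∃ u, orderOf u = 2 ∧ u ∉ H := by
    by_contra hne
    push Not at hne
    refine hH (top_le_iff.1 (hgen ▸ ?_))
    rw [normalClosure, closure_le]
    intro y hy
    obtain ⟨a, ha, hay⟩ := Group.mem_conjugatesOfSet_iff.1 hy
    rw [Set.mem_singleton_iff] at ha
    subst a
    obtain ⟨g, rfl⟩ := isConj_iff.1 hay
    exact hne _ (orderOf_eq_prime (by rw [pow_two, conj_mul, h.tt, mul_one, mul_inv_cancel])
      fun e => h.t1 (conj_eq_one_iff.1 e))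
  -- the subgroup generated by the `H`-class
  set H₁ := closure {y | ∃ k ∈ H, y = k * t * k⁻¹}
  have hH₁H : H₁ ≤ H := (closure_le _).2 (by
    rintro _ ⟨k, hk, rfl⟩
    exact mul_mem (mul_mem hk (hCH (mem_centralizer_singleton_iff.2 rfl))) (inv_mem hk))
  have hH₁n : ∀ k ∈ H, ∀ y ∈ H₁, k * y * k⁻¹ ∈ H₁ := by
    intro k hk y hy
    have hle : H₁.map (MulAut.conj k).toMonoidHom ≤ H₁ := by
      rw [MonoidHom.map_closure, closure_le]
      rintro _ ⟨_, ⟨k', hk', rfl⟩, rfl⟩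
      refine subset_closure ⟨k * k', mul_mem hk hk', ?_⟩
      simp only [MulEquiv.coe_toMonoidHom, MulAut.conj_apply]; group
    exact hle ⟨y, hy, rfl⟩
  have hconjH₁ : ∀ x ∈ vee t S, x ≠ 1 → ∀ y, IsConj t y → y * x = x * y → y ∈ H₁ := by
    intro x hx hx1 y hy hc
    obtain ⟨n, hn, e⟩ := h.exists_norm hx (h.all_conj hx hx1)
    have hyH : y ∈ H := by
      have h1 : n⁻¹ * y * n ∈ centralizer ({t} : Set G) := mem_centralizer_singleton_iff.2 (by
        calc n⁻¹ * y * n * t = n⁻¹ * (y * (n * t * n⁻¹)) * n := by group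
          _ = n⁻¹ * (n * t * n⁻¹ * y) * n := by rw [e, hc]
          _ = t * (n⁻¹ * y * n) := by group)
      have h2 := mul_mem (mul_mem (hNH hn) (hCH h1)) (inv_mem (hNH hn))
      rwa [show n * (n⁻¹ * y * n) * n⁻¹ = y by group] at h2
    obtain ⟨g, rfl⟩ := isConj_iff.1 hy
    obtain ⟨k, hk, e'⟩ := hone _ hyH (by rw [conj_mul, h.tt, mul_one, mul_inv_cancel])
      fun e' => h.t1 (conj_eq_one_iff.1 e')
    exact subset_closure ⟨k, hk, e'.symm⟩
  have hW₁ : wcl t ≤ H₁ := h.wcl_le_of (IsConj.refl t) (hconjH₁ t h.t_mem_V h.t1)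
  have hS₁ : (S : Subgroup G) ≤ H₁ := hvS ▸ inf_le_right.trans hW₁
  obtain ⟨h₁, hmap⟩ := h.restrict hW₁ (fun x hx hx1 => h.alt_le_of hx hx1 (hconjH₁ x hx hx1))
    (S.subtype hS₁) rfl
  set t₁ : H₁ := ⟨t, hW₁ (self_mem_wcl t)⟩
  have h8' : Nat.card ((S.subtype hS₁ : Sylow 2 H₁) : Subgroup H₁) = 8 := by
    rw [show ((S.subtype hS₁ : Sylow 2 H₁) : Subgroup H₁) = (S : Subgroup G).subgroupOf H₁ from rfl,
      Nat.card_congr (subgroupOfEquivOfLe hS₁).toEquiv, h8]
  have hperf₁ : commutator H₁ = ⊤ := by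
    apply map_injective H₁.subtype_injective
    rw [map_subtype_commutator, ← MonoidHom.range_eq_map, range_subtype]
    refine le_antisymm (commutator_le.2 fun a ha b hb => ?_) ?_
    · rw [commutatorElement_def]; exact mul_mem (mul_mem (mul_mem ha hb) (inv_mem ha)) (inv_mem hb)
    have hn : ∀ k ∈ H, ∀ y ∈ ⁅H₁, H₁⁆, k * y * k⁻¹ ∈ ⁅H₁, H₁⁆ := by
      intro k hk y hy
      have hle : (⁅H₁, H₁⁆).map (MulAut.conj k).toMonoidHom ≤ ⁅H₁, H₁⁆ := by
        rw [map_commutator]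
        exact commutator_mono (fun _ ⟨z, hz, e⟩ => e ▸ hH₁n k hk z hz) (fun _ ⟨z, hz, e⟩ => e ▸ hH₁n k hk z hz)
      exact hle ⟨y, hy, rfl⟩
    obtain ⟨a, b, ha, -, -⟩ := h.exists_four
    obtain ⟨n, hn', e⟩ := h.exists_norm ha.1 (h.all_conj ha.1 ha.2.2)
    have hmono : alt t ≤ ⁅H₁, H₁⁆ := commutator_mono hW₁ hW₁
    have ht : t ∈ ⁅H₁, H₁⁆ := by
      have h3 := hn n⁻¹ (inv_mem (hNH hn')) a (hmono ha.2.1)
      rwa [inv_inv, show n⁻¹ * a * n = t by rw [← e]; group] at h3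
    exact (closure_le _).2 (by rintro _ ⟨k, hk, rfl⟩; exact hn k hk t ht)
  have hgen₁ : normalClosure ({t₁} : Set H₁) = ⊤ := by
    apply map_injective H₁.subtype_injective
    rw [← MonoidHom.range_eq_map, range_subtype]
    refine le_antisymm (map_subtype_le _) ((closure_le _).2 ?_)
    rintro y ⟨k, hk, rfl⟩
    refine ⟨⟨k * t * k⁻¹, subset_closure ⟨k, hk, rfl⟩⟩, ?_, rfl⟩
    have hcj := h₁.conj_of_involution h8' (z := (⟨k * t * k⁻¹, subset_closure ⟨k, hk, rfl⟩⟩ : H₁))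
      (Subtype.ext (by show k * t * k⁻¹ * (k * t * k⁻¹) = 1; rw [conj_mul, h.tt, mul_one, mul_inv_cancel]))
      (fun e => h.t1 (conj_eq_one_iff.1 (congrArg Subtype.val e)))
    obtain ⟨g, hg⟩ := isConj_iff.1 hcj
    rw [← hg]
    exact normalClosure_normal.conj_mem _ (subset_normalClosure (Set.mem_singleton t₁)) g
  have hDH₁ : ∀ d ∈ D, ∀ y ∈ H₁, d * y = y * d := by
    intro d hd y hy
    have hle : H₁ ≤ centralizer ({d} : Set G) := (closure_le _).2 (by
      rintro _ ⟨k, hk, rfl⟩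
      have hd' : k⁻¹ * d * k ∈ D := by
        have := (mem_normalizer_iff.1 (inv_mem hk : k⁻¹ ∈ H) d).1 hd
        rwa [inv_inv] at this
      have e := h.core_comm_wcl hd' (self_mem_wcl t)
      refine mem_centralizer_singleton_iff.2 ?_
      calc k * t * k⁻¹ * d = k * (t * (k⁻¹ * d * k)) * k⁻¹ := by group
        _ = k * (k⁻¹ * d * k * t) * k⁻¹ := by rw [e]
        _ = d * (k * t * k⁻¹) := by group)
    exact (mem_centralizer_singleton_iff.1 (hle hy)).symm
  have hwcl₁ : ∀ (w : G) (hw : w ∈ wcl t), (⟨w, hW₁ hw⟩ : H₁) ∈ wcl t₁ := fun w hw => by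
    obtain ⟨w', hw', e⟩ := (hmap.symm ▸ hw : w ∈ (wcl t₁).map H₁.subtype)
    rwa [show (⟨w, hW₁ hw⟩ : H₁) = w' from Subtype.ext e.symm]
  obtain ⟨eJ⟩ := isoJ1_of_perfect h₁ h8' hperf₁ hgen₁ (by
    intro c hc
    obtain ⟨d, hd, w, hw, e⟩ := h.centralizer_decomp (c := (c : G))
      (mem_centralizer_singleton_iff.2 (congrArg Subtype.val (mem_centralizer_singleton_iff.1 hc)))
    refine ⟨⟨w, hW₁ hw⟩, hwcl₁ w hw, mem_center_iff.2 fun y => Subtype.ext ?_⟩
    show (y : G) * ((c : G) * w⁻¹) = (c : G) * w⁻¹ * y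
    rw [e, mul_inv_cancel_right]
    exact (hDH₁ d hd y y.2).symm)
  -- the centre of the subgroup is trivial
  haveI : IsSimpleGroup H₁ := by
    haveI : IsSimpleGroup Cfsg.Spor.J1 := CfsgLib.SmallGroups.J1Order.isJ1.1
    exact eJ.isSimpleGroup
  have hcen : center H₁ = ⊥ := by
    rcases IsSimpleGroup.eq_bot_or_eq_top_of_normal (center H₁) inferInstance with e | e
    · exact e
    · exfalso
      obtain ⟨x, -, hxc, hxt⟩ := h₁.exists_other
      obtain ⟨k, rfl⟩ := isConj_iff.1 hxc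
      exact hxt (by rw [mem_center_iff.1 (e ▸ mem_top t₁ : t₁ ∈ center H₁) k, mul_inv_cancel_right])
  have hDbot : ∀ d ∈ D, d ∈ H₁ → d = 1 := by
    intro d hd hd₁
    have hz : (⟨d, hd₁⟩ : H₁) ∈ center H₁ :=
      mem_center_iff.2 fun y => Subtype.ext (hDH₁ d hd y y.2).symm
    rw [hcen, mem_bot] at hz
    exact congrArg Subtype.val hz
  -- `H = H₁ D`
  have hdec : ∀ k ∈ H, ∃ l ∈ H₁, ∃ d ∈ D, k = l * d := by
    intro k hk
    have hm : k * t * k⁻¹ ∈ H₁ := subset_closure ⟨k, hk, rfl⟩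
    obtain ⟨g, hg⟩ := isConj_iff.1 (h₁.conj_of_involution h8' (z := (⟨k * t * k⁻¹, hm⟩ : H₁))
      (Subtype.ext (by show k * t * k⁻¹ * (k * t * k⁻¹) = 1; rw [conj_mul, h.tt, mul_one, mul_inv_cancel]))
      (fun e => h.t1 (conj_eq_one_iff.1 (congrArg Subtype.val e))))
    have hg' : (g : G) * t * (g : G)⁻¹ = k * t * k⁻¹ := congrArg Subtype.val hg
    obtain ⟨d, hd, w, hw, e⟩ := h.centralizer_decomp (c := (g : G)⁻¹ * k) (mem_centralizer_singleton_iff.2 (by
      calc (g : G)⁻¹ * k * t = (g : G)⁻¹ * (k * t * k⁻¹) * k := by group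
        _ = (g : G)⁻¹ * ((g : G) * t * (g : G)⁻¹) * k := by rw [hg']
        _ = t * ((g : G)⁻¹ * k) := by group))
    refine ⟨(g : G) * w, mul_mem g.2 (hW₁ hw), d, hd, ?_⟩
    rw [mul_assoc, ← h.core_comm_wcl hd hw, ← e, mul_inv_cancel_left]
  set R := H ⊓ H.map (MulAut.conj u).toMonoidHom
  have hRodd : Odd (Nat.card R) := hSE.2.2 u huH
  have hproj : ∀ r : R, ∃ l : H₁, ∃ d ∈ D, (r : G) = l * d := fun r => by
    obtain ⟨l, hl, d, hd, e⟩ := hdec r (mem_inf.1 r.2).1
    exact ⟨⟨l, hl⟩, d, hd, e⟩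
  choose p dd hdd hp using hproj
  have huniq : ∀ (l l' : H₁) (d d' : G), d ∈ D → d' ∈ D → (l : G) * d = (l' : G) * d' → l = l' := by
    intro l l' d d' hd hd' e
    have e2 : (l' : G)⁻¹ * l = d' * d⁻¹ := by
      rw [eq_mul_inv_iff_mul_eq, mul_assoc, e, inv_mul_cancel_left]
    have h3 := hDbot _ (mul_mem hd' (inv_mem hd)) (e2 ▸ mul_mem (inv_mem l'.2) l.2)
    rw [h3, inv_mul_eq_one] at e2
    exact Subtype.ext e2.symm
  let ρ : R →* H₁ := MonoidHom.mk' p fun a b => by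
    refine huniq _ _ (dd (a * b)) (dd a * dd b) (hdd _) (mul_mem (hdd a) (hdd b)) ?_
    rw [← hp]
    show (a : G) * b = (p a : G) * (p b : G) * (dd a * dd b)
    rw [hp a, hp b]
    calc (p a : G) * dd a * ((p b : G) * dd b) = (p a : G) * (dd a * (p b : G)) * dd b := by group
      _ = (p a : G) * ((p b : G) * dd a) * dd b := by rw [hDH₁ _ (hdd a) _ (p b).2]
      _ = _ := by group
  have htrans : ∀ l : H₁, ∃ r : R, ρ r * t₁ * (ρ r)⁻¹ = l * t₁ * l⁻¹ := by
    intro l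
    obtain ⟨⟨r, hr, e⟩, -⟩ := Cfsg.Agent.S1225.result H hSE u hu huH t ((l : G) * t * (l : G)⁻¹)
      (orderOf_eq_prime (by rw [pow_two, h.tt]) h.t1) (hCH (mem_centralizer_singleton_iff.2 rfl))
      (orderOf_eq_prime (by rw [pow_two, conj_mul, h.tt, mul_one, mul_inv_cancel])
        fun e => h.t1 (conj_eq_one_iff.1 e))
      (hH₁H (mul_mem (mul_mem l.2 t₁.2) (inv_mem l.2)))
    refine ⟨⟨r, hr⟩, Subtype.ext ?_⟩
    show (p ⟨r, hr⟩ : G) * t * (p ⟨r, hr⟩ : G)⁻¹ = (l : G) * t * (l : G)⁻¹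
    have hr' := hp ⟨r, hr⟩
    have hd0 := hdd ⟨r, hr⟩
    change r = _ at hr'
    generalize p ⟨r, hr⟩ = l' at hr' ⊢
    generalize dd ⟨r, hr⟩ = d' at hr' hd0
    subst hr'
    rw [← e]
    calc (l' : G) * t * (l' : G)⁻¹
        = (l' : G) * (d' * t * d'⁻¹) * (l' : G)⁻¹ := by
          rw [h.core_comm_wcl hd0 (self_mem_wcl t), mul_inv_cancel_right]
      _ = _ := by group
  -- counting
  set C₁ := centralizer ({t₁} : Set H₁)
  have hC₁ : C₁ = wcl t₁ := by
    refine le_antisymm (fun c hc => ?_) (wcl_le t₁)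
    obtain ⟨d, hd, w, hw, e⟩ := h.centralizer_decomp (c := (c : G))
      (mem_centralizer_singleton_iff.2 (congrArg Subtype.val (mem_centralizer_singleton_iff.1 hc)))
    have hd1 : d = 1 := hDbot d hd (by
      rw [show d = (c : G) * w⁻¹ by rw [e, mul_inv_cancel_right]]
      exact mul_mem c.2 (inv_mem (hW₁ hw)))
    rw [hd1, one_mul] at e
    rw [show c = (⟨w, hW₁ hw⟩ : H₁) from Subtype.ext e]
    exact hwcl₁ w hw
  have hidx : C₁.index = 1463 := by
    have h1 := C₁.card_mul_index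
    rw [hC₁, h₁.card_wcl, Nat.card_congr eJ.toEquiv, CfsgLib.KnownA.J1Facts.card_J1] at h1
    rw [hC₁]; omega
  set K := ρ.range
  have horb : (MulAction.orbit K (QuotientGroup.mk 1 : H₁ ⧸ C₁)) = Set.univ := by
    refine Set.eq_univ_of_forall fun q => ?_
    induction q using QuotientGroup.induction_on with
    | _ l =>
      obtain ⟨r, hr⟩ := htrans l
      refine ⟨⟨ρ r, r, rfl⟩, ?_⟩
      show QuotientGroup.mk (ρ r * 1) = (QuotientGroup.mk l : H₁ ⧸ C₁)
      rw [mul_one, QuotientGroup.eq]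
      refine mem_centralizer_singleton_iff.2 ?_
      calc (ρ r)⁻¹ * l * t₁ = (ρ r)⁻¹ * (l * t₁ * l⁻¹) * l := by group
        _ = (ρ r)⁻¹ * (ρ r * t₁ * (ρ r)⁻¹) * l := by rw [hr]
        _ = t₁ * ((ρ r)⁻¹ * l) := by group
  have hdvd : 1463 ∣ Nat.card K := by
    have h1 := MulAction.index_stabilizer (G := K) (x := (QuotientGroup.mk 1 : H₁ ⧸ C₁))
    rw [horb, Set.ncard_univ, ← Subgroup.index_eq_card, hidx] at h1
    exact h1 ▸ index_dvd_card _
  have hKodd : Odd (Nat.card K) := hRodd.of_dvd_nat (card_range_dvd ρ)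
  refine no_odd_subgroup (K.map eJ.toMonoidHom) ?_ ?_
  · rwa [card_map_of_injective eJ.injective]
  · rwa [card_map_of_injective eJ.injective]

/-- The main theorem. -/
theorem isoJ1_normalClosure (h : Hyp t S) : Cfsg.Spor.IsoJ1 (normalClosure ({t} : Set G)) := by
  haveI : Fact (Nat.Prime 2) := ⟨Nat.prime_two⟩
  set M := normalClosure ({t} : Set G)
  have hconjM : ∀ y, IsConj t y → y ∈ M := fun y hy => by
    obtain ⟨g, rfl⟩ := isConj_iff.1 hy
    exact normalClosure_normal.conj_mem t (subset_normalClosure (Set.mem_singleton t)) g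
  have hWM : wcl t ≤ M := h.wcl_le_of (IsConj.refl t) fun y hy _ => hconjM y hy
  have hVM : vee t S ≤ M := inf_le_right.trans hWM
  obtain ⟨a, b, ha, -, -⟩ := h.exists_four
  have hperf : ⁅M, M⁆ = M := by
    refine le_antisymm (commutator_le.2 fun x hx y hy => ?_) ?_
    · rw [commutatorElement_def]; exact mul_mem (mul_mem (mul_mem hx hy) (inv_mem hx)) (inv_mem hy)
    obtain ⟨g, hg⟩ := isConj_iff.1 (h.all_conj ha.1 ha.2.2).symm
    have ha' : a ∈ ⁅M, M⁆ := commutator_mono hWM hWM ha.2.1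
    exact normalClosure_le_normal (Set.singleton_subset_iff.2
      (hg ▸ (inferInstance : (⁅M, M⁆).Normal).conj_mem a ha' g))
  haveI := CfsgLib.Involution.ZStar.oddCore_normal (G := G)
  have hMO : ∀ x ∈ M, ∀ o ∈ Cfsg.oddCore G, x * o = o * x := by
    intro x hx o ho
    have hle : M ≤ centralizer ({o} : Set G) := by
      change normalClosure ({t} : Set G) ≤ _
      rw [normalClosure, closure_le]
      intro y hy
      obtain ⟨a, ha, hay⟩ := Group.mem_conjugatesOfSet_iff.1 hy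
      rw [Set.mem_singleton_iff] at ha
      subst a
      obtain ⟨g, rfl⟩ := isConj_iff.1 hay
      have ho' : g⁻¹ * o * g ∈ Cfsg.oddCore G := by
        have := (inferInstance : (Cfsg.oddCore G).Normal).conj_mem o ho g⁻¹
        rwa [inv_inv] at this
      have e := h.t_comm_core_odd ho'
      refine mem_centralizer_singleton_iff.2 ?_
      calc g * t * g⁻¹ * o = g * (t * (g⁻¹ * o * g)) * g⁻¹ := by group
        _ = g * (g⁻¹ * o * g * t) * g⁻¹ := by rw [e]
        _ = o * (g * t * g⁻¹) := by group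
    exact mem_centralizer_singleton_iff.1 (hle hx)
  have hMV : normalClosure ((vee t S : Subgroup G) : Set G) = M :=
    le_antisymm (normalClosure_le_normal hVM) (normalClosure_le_normal
      (Set.singleton_subset_iff.2 (subset_normalClosure (h.t_mem_V : t ∈ vee t S))))
  -- the other factor centralises `M`
  have hDM : ∀ d ∈ (S : Subgroup G) ⊓ core t S, ∀ x ∈ M, x * d = d * x := by
    intro d hd x hx
    have hpf := CfsgLib.LocalEven.ProductFusion.commutator_normalClosure_le S h.vee_closed h.core_closed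
      (fun v hv c hc => mem_centralizer_iff.1 (h.core_le_cv hc.2) v hv)
      (eq_bot_iff.2 fun v hv => h.vee_core hv.1 hv.2.2)
    rw [hMV] at hpf
    have hc : ∀ y ∈ M, y * d * y⁻¹ * d⁻¹ ∈ M ⊓ Cfsg.oddCore G := fun y hy => by
      refine mem_inf.2 ⟨?_, ?_⟩
      · rw [show y * d * y⁻¹ * d⁻¹ = y * (d * y⁻¹ * d⁻¹) by group]
        exact mul_mem hy (normalClosure_normal.conj_mem _ (inv_mem hy) d)
      · rw [← commutatorElement_def]
        exact hpf (commutator_mem_commutator hy (subset_normalClosure hd))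
    haveI : Std.Commutative (fun a b : (M ⊓ Cfsg.oddCore G : Subgroup G) => a * b) :=
      ⟨fun a b => Subtype.ext (hMO _ a.2.1 _ b.2.2)⟩
    letI : CommGroup (M ⊓ Cfsg.oddCore G : Subgroup G) :=
      { (inferInstance : Group (M ⊓ Cfsg.oddCore G : Subgroup G)) with
        mul_comm := fun a b => Subtype.ext (hMO _ a.2.1 _ b.2.2) }
    let φ : M →* (M ⊓ Cfsg.oddCore G : Subgroup G) :=
      MonoidHom.mk' (fun y => ⟨_, hc y y.2⟩) fun y z => Subtype.ext (by
        show (y : G) * z * d * ((y : G) * z)⁻¹ * d⁻¹ = (y : G) * d * (y : G)⁻¹ * d⁻¹ * ((z : G) * d * (z : G)⁻¹ * d⁻¹)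
        have e := hMO _ (inv_mem y.2) _ (hc z z.2).2
        have e2 := hMO _ y.2 _ (hc z z.2).2
        calc (y : G) * z * d * ((y : G) * z)⁻¹ * d⁻¹
            = (y : G) * ((z : G) * d * (z : G)⁻¹ * d⁻¹) * (d * (y : G)⁻¹ * d⁻¹) := by group
          _ = (z : G) * d * (z : G)⁻¹ * d⁻¹ * ((y : G) * d * (y : G)⁻¹ * d⁻¹) := by rw [e2]; group
          _ = _ := (hMO _ (hc z z.2).1 _ (hc y y.2).2))
    have hker : φ.ker = ⊤ := by
      refine top_le_iff.1 (le_trans ?_ (Abelianization.commutator_subset_ker φ))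
      apply (map_le_map_iff_of_injective M.subtype_injective).1
      rw [map_subtype_commutator, hperf, ← MonoidHom.range_eq_map, range_subtype]
    have h0 : φ ⟨x, hx⟩ = 1 := MonoidHom.mem_ker.1 (by rw [hker]; exact mem_top _)
    have := congrArg Subtype.val h0
    exact mul_inv_eq_iff_eq_mul.1 (mul_inv_eq_one.1 this)
  have hperf' : commutator M = ⊤ := by
    apply map_injective M.subtype_injective
    rw [map_subtype_commutator, hperf, ← MonoidHom.range_eq_map, range_subtype]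
  -- the Sylow subgroup of `M`
  set U := (S : Subgroup G) ⊓ M
  have hi : ¬ 2 ∣ U.relIndex M := CfsgLib.Fusion.Basic.not_dvd_relIndex_of_normal S M
  let P : Sylow 2 M := CfsgLib.Fusion.Basic.sylowSubgroupOf (U := U) inf_le_right (IsPGroup.to_le S.2 inf_le_left) hi
  have hP : (P : Subgroup M) = (S : Subgroup G).subgroupOf M := by
    rw [show (P : Subgroup M) = U.subgroupOf M from rfl]
    exact inf_subgroupOf_right _ _
  have hsplit : ∀ s ∈ (S : Subgroup G) ⊓ M, ∃ v ∈ vee t S, ∃ d ∈ (S : Subgroup G) ⊓ core t S,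
      d ∈ M ∧ s = d * v := fun s hs => by
    obtain ⟨v, hv, h1, h2⟩ := h.S_decomp hs.1
    exact ⟨v, hv, s * v, ⟨h2, h1⟩, mul_mem hs.2 (hVM hv), by rw [mul_assoc, h.sq_V hv, mul_one]⟩
  have hab : IsMulCommutative (P : Subgroup M) := ⟨⟨fun x y => by
    have hx := x.2; have hy := y.2
    simp only [hP, mem_subgroupOf] at hx hy
    obtain ⟨v, hv, d, hd, hdm, ex⟩ := hsplit _ ⟨hx, (x : M).2⟩
    obtain ⟨w, hw, c, hc, hcm, ey⟩ := hsplit _ ⟨hy, (y : M).2⟩
    refine Subtype.ext (Subtype.ext ?_)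
    show ((x : M) : G) * (y : M) = ((y : M) : G) * (x : M)
    have c1 : Commute d (c * w) := (hDM d hd _ (mul_mem hcm (hVM hw))).symm
    have c2 : Commute v (c * w) := (show Commute v c from hDM c hc v (hVM hv)).mul_right (h.comm_V hv hw)
    rw [ex, ey]
    exact (c1.mul_left c2).eq⟩⟩
  have hSM : (S : Subgroup G) ⊓ M = vee t S := by
    refine le_antisymm (fun s hs => ?_) (le_inf inf_le_left hVM)
    obtain ⟨v, hv, d, hd, hdm, rfl⟩ := hsplit s hs
    have h1 := eq_one_of_central hperf' P hab (z := (⟨d, hdm⟩ : M))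
      (by rw [hP, mem_subgroupOf]; exact hd.1) fun y => Subtype.ext (hDM d hd y y.2).symm
    rw [show d = 1 from congrArg Subtype.val h1, one_mul]
    exact hv
  obtain ⟨hM, -⟩ := h.restrict hWM (fun x hx hx1 => h.alt_le_of hx hx1 fun y hy _ => hconjM y hy) P hP
  have h8 : Nat.card (P : Subgroup M) = 8 := by
    rw [show (P : Subgroup M) = U.subgroupOf M from rfl,
      Nat.card_congr (subgroupOfEquivOfLe inf_le_right).toEquiv, show ((S : Subgroup G) ⊓ M) = vee t S from hSM, h.card_V]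
  refine isoJ1_of_gen hM h8 hperf' ?_
  apply map_injective M.subtype_injective
  rw [← MonoidHom.range_eq_map, range_subtype]
  refine le_antisymm (map_subtype_le _) ?_
  change normalClosure ({t} : Set G) ≤ _
  conv_lhs => rw [normalClosure]
  rw [closure_le]
  intro y hy
  obtain ⟨a, ha, hay⟩ := Group.mem_conjugatesOfSet_iff.1 hy
  rw [Set.mem_singleton_iff] at ha
  subst a
  obtain ⟨g, rfl⟩ := isConj_iff.1 hay
  refine ⟨⟨g * t * g⁻¹, hconjM _ hay⟩, ?_, rfl⟩
  have hcj := hM.conj_of_involution h8 (z := (⟨g * t * g⁻¹, hconjM _ hay⟩ : M))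
    (Subtype.ext (by show g * t * g⁻¹ * (g * t * g⁻¹) = 1; rw [conj_mul, h.tt, mul_one, mul_inv_cancel]))
    (fun e => h.t1 (conj_eq_one_iff.1 (congrArg Subtype.val e)))
  obtain ⟨k, hk⟩ := isConj_iff.1 hcj
  rw [← hk]
  exact normalClosure_normal.conj_mem _ (subset_normalClosure (Set.mem_singleton _)) k

end CfsgLib.Involution.WeakClosureJ1
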