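import Cfsg.Agent.Lib.Involution.WeakClosureJ1.Structure
import Cfsg.Agent.Lib.Sporadic.J1Unique.Unique
import Mathlib.GroupTheory.Transfer
import Mathlib.NumberTheory.Divisors

/-!
# Perfect groups with centraliser `2 × A_5` modulo the centre
-/

set_option autoImplicit false
set_option linter.style.haveILetI false
set_option linter.unusedSectionVars false

namespace CfsgLib.Involution.WeakClosureJ1

open Subgroup
open scoped commutatorElement

universe u

/-- Central elements in an abelian Sylow subgroup of a perfect group are trivial. -/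
theorem eq_one_of_central {Y : Type u} [Group Y] [Finite Y] (hperf : commutator Y = ⊤) {p : ℕ}
    [Fact p.Prime] (P : Sylow p Y) (hab : IsMulCommutative (P : Subgroup Y)) {z : Y}
    (hz : z ∈ (P : Subgroup Y)) (hc : ∀ y : Y, z * y = y * z) : z = 1 := by
  letI : CommGroup (P : Subgroup Y) :=
    { (inferInstance : Group (P : Subgroup Y)) with mul_comm := hab.is_comm.comm }
  let tr : Y →* (P : Subgroup Y) := MonoidHom.transfer (MonoidHom.id (P : Subgroup Y))
  have hkey : ∀ (k : ℕ) (g₀ : Y), g₀⁻¹ * z ^ k * g₀ ∈ (P : Subgroup Y) → g₀⁻¹ * z ^ k * g₀ = z ^ k :=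
    fun k g₀ _ => by
      rw [mul_assoc, ((show Commute z g₀ from hc g₀).pow_left k).eq, inv_mul_cancel_left]
  have h1 : tr z = 1 := by
    refine MonoidHom.mem_ker.1 ((?_ : commutator Y ≤ tr.ker) (hperf ▸ mem_top z))
    exact Abelianization.commutator_subset_ker tr
  have h3 := MonoidHom.transfer_eq_pow (MonoidHom.id (P : Subgroup Y)) z hkey
  rw [show MonoidHom.transfer (MonoidHom.id (P : Subgroup Y)) z = tr z from rfl, h1] at h3
  have h4 : z ^ (P : Subgroup Y).index = 1 := (congrArg Subtype.val h3).symm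
  obtain ⟨k, hk⟩ := P.2 ⟨z, hz⟩
  have h5 : z ^ p ^ k = 1 := by
    have := congrArg Subtype.val hk
    rwa [SubgroupClass.coe_pow] at this
  have hcop : Nat.Coprime (p ^ k) (P : Subgroup Y).index :=
    Nat.Coprime.pow_left k ((Fact.out : p.Prime).coprime_iff_not_dvd.2 P.not_dvd_index)
  have := Nat.dvd_gcd (orderOf_dvd_of_pow_eq_one h5) (orderOf_dvd_of_pow_eq_one h4)
  rw [hcop.gcd_eq_one, Nat.dvd_one] at this
  exact orderOf_eq_one_iff.1 this

variable {Y : Type u} [Group Y] [Finite Y] {t : Y} {S : Sylow 2 Y}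

theorem Hyp.vee_eq_S (h : Hyp t S) (h8 : Nat.card (S : Subgroup Y) = 8) : vee t S = (S : Subgroup Y) :=
  eq_of_le_of_card_ge inf_le_left (by rw [h8, h.card_V])

theorem Hyp.conj_of_involution (h : Hyp t S) (h8 : Nat.card (S : Subgroup Y) = 8) {z : Y}
    (hz : z * z = 1) (hz1 : z ≠ 1) : IsConj t z := by
  haveI : Fact (Nat.Prime 2) := ⟨Nat.prime_two⟩
  obtain ⟨g, hg⟩ := CfsgLib.Involution.Basic.exists_conj_le S (Q := zpowers z)
    (IsPGroup.of_card (n := 1) (by rw [Nat.card_zpowers, pow_one, orderOf_eq_prime (by rw [pow_two, hz]) hz1]))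
  have hm := hg z (mem_zpowers z)
  change g * z * g⁻¹ ∈ (S : Subgroup Y) at hm
  rw [← h.vee_eq_S h8] at hm
  exact (h.all_conj hm fun e => hz1 (conj_eq_one_iff.1 e)).trans (isConj_iff.2 ⟨g⁻¹, by group⟩)

theorem isoJ1_of_perfect (h : Hyp t S) (h8 : Nat.card (S : Subgroup Y) = 8)
    (hperf : commutator Y = ⊤) (hgen : normalClosure ({t} : Set Y) = ⊤)
    (hZ : ∀ c ∈ centralizer ({t} : Set Y), ∃ w ∈ wcl t, c * w⁻¹ ∈ center Y) :
    Cfsg.Spor.IsoJ1 Y := by
  haveI : Fact (Nat.Prime 2) := ⟨Nat.prime_two⟩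
  set Z := center Y
  have hZinv : ∀ z ∈ Z, z * z = 1 → z = 1 := by
    intro z hz hz2
    by_contra hz1
    obtain ⟨g, hg⟩ := isConj_iff.1 (h.conj_of_involution h8 hz2 hz1)
    have hzt : z = t := by
      have h1 : g⁻¹ * z * g = t := by rw [← hg]; group
      rwa [mul_assoc, ← mem_center_iff.1 hz g, inv_mul_cancel_left] at h1
    obtain ⟨x, -, hxc, hxt⟩ := h.exists_other
    obtain ⟨k, rfl⟩ := isConj_iff.1 hxc
    exact hxt (by rw [← hzt, mem_center_iff.1 hz k, mul_inv_cancel_right])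
  have hZodd : Odd (Nat.card Z) := by
    rw [← Nat.not_even_iff_odd]
    intro he
    obtain ⟨z, hz⟩ := exists_prime_orderOf_dvd_card' (G := Z) 2 he.two_dvd
    have h2 : (z : Y) * z = 1 := by rw [← pow_two, ← hz, ← Subgroup.orderOf_coe, pow_orderOf_eq_one]
    rw [← Subgroup.orderOf_coe, hZinv z z.2 h2, orderOf_one] at hz
    omega
  have hWZ : ∀ w ∈ wcl t, w ∈ Z → w = 1 := fun w hw hz => h.eq_one_of_odd hZodd hz hw
  -- normal subgroups of odd order are central
  have hodd : ∀ N : Subgroup Y, N.Normal → Odd (Nat.card N) → N ≤ Z := by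
    intro N hN hNo
    haveI := hN
    haveI : (N ⊔ Z).Normal := inferInstance
    have hsupodd : Odd (Nat.card (N ⊔ Z : Subgroup Y)) := by
      rw [← Nat.not_even_iff_odd, even_iff_two_dvd]
      intro h2
      have h3 := relIndex_mul_relIndex ⊥ Z (N ⊔ Z) bot_le le_sup_right
      rw [relIndex_bot_left, relIndex_bot_left, relIndex_sup_right] at h3
      rw [← h3] at h2
      rcases (Nat.Prime.dvd_mul Nat.prime_two).1 h2 with h4 | h4
      · exact (Nat.not_even_iff_odd.2 hZodd) (even_iff_two_dvd.2 h4)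
      · exact (Nat.not_even_iff_odd.2 hNo) (even_iff_two_dvd.2 (h4.trans (relIndex_dvd_card Z N)))
    have hfix : ∀ c ∈ N ⊔ Z, c * t = t * c → c ∈ Z := by
      intro c hc hct
      obtain ⟨w, hw, hcw⟩ := hZ c (mem_centralizer_singleton_iff.2 hct)
      have hw' : w ∈ N ⊔ Z := by
        have := mul_mem (inv_mem (mem_sup_right hcw : c * w⁻¹ ∈ N ⊔ Z)) hc
        rwa [show (c * w⁻¹)⁻¹ * c = w by group] at this
      rwa [h.eq_one_of_odd hsupodd hw' hw, inv_one, mul_one] at hcw
    have hall : ∀ v : Y, v * v = 1 → v ≠ 1 → ∀ c ∈ N ⊔ Z, Commute c v → c ∈ Z := by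
      intro v hv hv1 c hc hcv
      obtain ⟨g, rfl⟩ := isConj_iff.1 (h.conj_of_involution h8 hv hv1)
      have hc' : g⁻¹ * c * g ∈ N ⊔ Z := by
        have := (inferInstance : (N ⊔ Z).Normal).conj_mem c hc g⁻¹
        rwa [inv_inv] at this
      have h1 := hfix _ hc' (by
        calc g⁻¹ * c * g * t = g⁻¹ * (c * (g * t * g⁻¹)) * g := by group
          _ = g⁻¹ * (g * t * g⁻¹ * c) * g := by rw [hcv.eq]
          _ = t * (g⁻¹ * c * g) := by group)
      have h2 := (inferInstance : Z.Normal).conj_mem _ h1 g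
      rwa [show g * (g⁻¹ * c * g) * g⁻¹ = c by group] at h2
    obtain ⟨a, b, ha, hb, hne⟩ := h.exists_four
    have hn : ∀ v ∈ vee t S, ∀ y ∈ N ⊔ Z, v * y * v ∈ N ⊔ Z := fun v hv y hy => by
      have := (inferInstance : (N ⊔ Z).Normal).conj_mem y hy v
      rwa [inv_eq_of_mul_eq_one_right (h.sq_V hv)] at this
    intro o ho
    obtain ⟨c, hc, u, hu, w, hw, h1, h2, h3, rfl⟩ := CfsgLib.LocalEvenB.ExtremelyClosed.four_split hsupodd
      (h.sq_V ha.1) (h.sq_V hb.1) (h.comm_V ha.1 hb.1) (hn a ha.1) (hn b hb.1) (mem_sup_left ho)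
    exact mul_mem (mul_mem (hall a (h.sq_V ha.1) ha.2.2 c hc h1) (hall b (h.sq_V hb.1) hb.2.2 u hu h2))
      (hall _ (h.sq_V (mul_mem ha.1 hb.1)) (fun e => hne (by
        rw [← inv_eq_of_mul_eq_one_right e, inv_eq_of_mul_eq_one_right (h.sq_V ha.1)])) w hw h3)
  -- the simple quotient
  set π := QuotientGroup.mk' Z
  have hπt : π t ≠ 1 := fun e => h.t1 (hWZ t (self_mem_wcl t) ((QuotientGroup.eq_one_iff t).1 e))
  haveI : Nontrivial (Y ⧸ Z) := ⟨⟨π t, 1, hπt⟩⟩
  haveI : IsSimpleGroup (Y ⧸ Z) := by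
    refine { eq_bot_or_eq_top_of_normal := fun M hM => ?_ }
    haveI := hM
    rcases Nat.even_or_odd (Nat.card (M.comap π)) with he | ho
    · right
      obtain ⟨v, hv⟩ := exists_prime_orderOf_dvd_card' (G := M.comap π) 2 he.two_dvd
      have hv2 : (v : Y) * v = 1 := by rw [← pow_two, ← hv, ← Subgroup.orderOf_coe, pow_orderOf_eq_one]
      have hv1 : (v : Y) ≠ 1 := fun e => by
        rw [← Subgroup.orderOf_coe, e, orderOf_one] at hv; omega
      obtain ⟨g, hg⟩ := isConj_iff.1 (h.conj_of_involution h8 hv2 hv1).symm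
      have ht : t ∈ M.comap π := hg ▸ (inferInstance : (M.comap π).Normal).conj_mem _ v.2 g
      have htop : M.comap π = ⊤ := top_le_iff.1 (hgen ▸ normalClosure_le_normal (Set.singleton_subset_iff.2 ht))
      rw [← map_comap_eq_self_of_surjective (QuotientGroup.mk'_surjective Z) M, htop,
        map_top_of_surjective _ (QuotientGroup.mk'_surjective Z)]
    · left
      rw [← map_comap_eq_self_of_surjective (QuotientGroup.mk'_surjective Z) M, Subgroup.map_eq_bot_iff,
        QuotientGroup.ker_mk']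
      exact hodd _ inferInstance ho
  -- its centraliser
  let f : wcl t →* centralizer ({π t} : Set (Y ⧸ Z)) :=
    (π.comp (wcl t).subtype).codRestrict _ fun w => mem_centralizer_singleton_iff.2 (by
      show π w * π t = π t * π w
      rw [← map_mul, ← map_mul, comm_wcl w.2])
  have hinj : Function.Injective f := (injective_iff_map_eq_one f).2 fun w hw => Subtype.ext
    (hWZ w w.2 ((QuotientGroup.eq_one_iff (w : Y)).1 (congrArg Subtype.val hw)))
  have hsurj : Function.Surjective f := by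
    rintro ⟨q, hq⟩
    obtain ⟨c, rfl⟩ := QuotientGroup.mk'_surjective Z q
    have hz : c * t * c⁻¹ * t⁻¹ ∈ Z := by
      refine (QuotientGroup.eq_one_iff _).1 ?_
      show π (c * t * c⁻¹ * t⁻¹) = 1
      rw [map_mul, map_mul, map_mul, map_inv, map_inv, mem_centralizer_singleton_iff.1 hq,
        mul_inv_cancel_right, mul_inv_cancel]
    have h1 := hZinv _ hz (by
      have hc2 : c * t * c⁻¹ * (c * t * c⁻¹) = 1 := by rw [conj_mul, h.tt, mul_one, mul_inv_cancel]
      have h3 : Commute (c * t * c⁻¹ * t⁻¹) t := (mem_center_iff.1 hz t).symm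
      calc c * t * c⁻¹ * t⁻¹ * (c * t * c⁻¹ * t⁻¹)
          = c * t * c⁻¹ * t⁻¹ * (c * t * c⁻¹ * t⁻¹) * (t * t) := by rw [h.tt, mul_one]
        _ = c * t * c⁻¹ * t⁻¹ * t * (c * t * c⁻¹ * t⁻¹ * t) := by
          rw [← h3.mul_mul_mul_comm]
        _ = c * t * c⁻¹ * (c * t * c⁻¹) := by group
        _ = 1 := hc2)
    obtain ⟨w, hw, hcw⟩ := hZ c (mem_centralizer_singleton_iff.2
      (mul_inv_eq_iff_eq_mul.1 (mul_inv_eq_one.1 h1)))
    refine ⟨⟨w, hw⟩, Subtype.ext ?_⟩
    show π w = π c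
    refine (QuotientGroup.eq (a := w) (b := c)).2 ?_
    have h2 := (inferInstance : Z.Normal).conj_mem _ hcw w⁻¹
    rwa [inv_inv, show w⁻¹ * (c * w⁻¹) * w = w⁻¹ * c by group] at h2
  have h2c : Cfsg.IsTwoCentralInvolution (π t) := by
    refine ⟨orderOf_eq_prime (by rw [pow_two, ← map_mul, h.tt, map_one]) hπt,
      S.mapSurjective (QuotientGroup.mk'_surjective Z), ⟨t, h.tS, rfl⟩, ?_⟩
    rintro _ ⟨s, hs, rfl⟩
    rw [← map_mul, ← map_mul, mem_centralizer_singleton_iff.1 (h.Sc hs)]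
  obtain ⟨e⟩ := h.iso
  obtain ⟨eQ⟩ := CfsgLib.Sporadic.J1Unique.isoJ1 (π t) h2c
    ((MulEquiv.ofBijective f ⟨hinj, hsurj⟩).symm.trans e)
  have hQ : Nat.card (Y ⧸ Z) = 175560 := by
    rw [Nat.card_congr eQ.toEquiv, CfsgLib.KnownA.J1Facts.card_J1]
  -- the multiplier has no odd part
  have hZbot : Z = ⊥ := by
    by_contra hne
    obtain ⟨p, hp, hpd⟩ := Nat.exists_prime_and_dvd (n := Nat.card Z) fun e => hne (eq_bot_of_card_eq _ e)
    haveI := Fact.mk hp
    obtain ⟨z, hz⟩ := exists_prime_orderOf_dvd_card' (G := Z) p hpd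
    have hp2 : p ≠ 2 := fun e => by
      subst e; exact (Nat.not_even_iff_odd.2 hZodd) (even_iff_two_dvd.2 hpd)
    obtain ⟨P⟩ := (inferInstance : Nonempty (Sylow p Y))
    obtain ⟨g, hg⟩ := CfsgLib.Involution.Basic.exists_conj_le P (Q := zpowers (z : Y))
      (IsPGroup.of_card (n := 1) (by rw [Nat.card_zpowers, Subgroup.orderOf_coe, hz, pow_one]))
    have hzP : (z : Y) ∈ (P : Subgroup Y) := by
      have := hg z (mem_zpowers _)
      rwa [mem_center_iff.1 z.2 g, mul_inv_cancel_right] at this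
    let r : (P : Subgroup Y) →* ((P : Subgroup Y).map π) :=
      (π.comp (P : Subgroup Y).subtype).codRestrict _ fun x => ⟨x, x.2, rfl⟩
    haveI : IsCyclic ((P : Subgroup Y).map π) := by
      obtain ⟨k, hk⟩ := IsPGroup.iff_card.1 (P.2.map π)
      have hd := ((P : Subgroup Y).map π).card_subgroup_dvd_card
      rw [hQ, hk] at hd
      rcases Nat.lt_or_ge k 2 with hk2 | hk2
      · rcases (show k = 0 ∨ k = 1 by omega) with rfl | rfl
        · haveI : Subsingleton ((P : Subgroup Y).map π) :=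
            (Nat.card_eq_one_iff_unique.1 (by rw [hk, pow_zero])).1
          infer_instance
        · exact isCyclic_of_prime_card (by rw [hk, pow_one])
      · exfalso
        have hd2 : p ^ 2 ∣ 175560 := (pow_dvd_pow p hk2).trans hd
        rcases CfsgLib.KnownA.J1Facts.prime_cases ((dvd_pow_self p two_ne_zero).trans hd2) hp2 with
          rfl | rfl | rfl | rfl | rfl <;> norm_num at hd2
    have hrker : r.ker ≤ center (P : Subgroup Y) := fun x hx => by
      have hx' : (x : Y) ∈ Z := (QuotientGroup.eq_one_iff (x : Y)).1 (congrArg Subtype.val (MonoidHom.mem_ker.1 hx))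
      exact mem_center_iff.2 fun y => Subtype.ext (mem_center_iff.1 hx' y)
    have hab : IsMulCommutative (P : Subgroup Y) := ⟨⟨commutative_of_cyclic_center_quotient r hrker⟩⟩
    have := eq_one_of_central hperf P hab hzP fun y => (mem_center_iff.1 z.2 y).symm
    rw [← Subgroup.orderOf_coe, this, orderOf_one] at hz
    exact hp.ne_one hz.symm
  exact ⟨(QuotientGroup.quotientBot.symm.trans (QuotientGroup.quotientMulEquivOfEq hZbot.symm)).trans eQ⟩

end CfsgLib.Involution.WeakClosureJ1
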