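import Cfsg.Agent.Lib.Involution.WeakClosureJ1.Core
import Cfsg.Agent.Lib.LocalEvenB.ExtremelyClosed
import Cfsg.Agent.Lib.LocalEven.ProductFusion.Product

/-!
# `C(t) = core × wcl t` and strong closure
-/

set_option autoImplicit false
set_option linter.style.haveILetI false
set_option linter.unusedSectionVars false

namespace CfsgLib.Involution.WeakClosureJ1

open Subgroup
open scoped commutatorElement

universe u

variable {G : Type u} [Group G] [Finite G]

namespace Hyp

variable {t : G} {S : Sylow 2 G} (h : Hyp t S)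
include h

theorem core_le_ker : core t S ≤ ker t := fun _ hd => mem_core.1 hd t h.t_mem_V h.t1

theorem vee_core {v : G} (hv : v ∈ vee t S) (hd : v ∈ core t S) : v = 1 := by
  rcases h.vee_ker hv (h.core_le_ker hd) with e | e
  · exact e
  · exfalso
    obtain ⟨a, b, ha, hb, hne⟩ := h.exists_four
    obtain ⟨n, hn, e', he, hk⟩ := h.exists_transport ha.1 ha.2.2
    have h1 := hk t (mem_core.1 (e ▸ hd) a ha.1 ha.2.2)
    rcases h.vee_ker (h.conj_inv_mem_vee hn h.t_mem_V) h1 with e1 | e1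
    · exact h.t1 (by
        calc t = n * (n⁻¹ * t * n) * n⁻¹ := by group
          _ = 1 := by rw [e1]; group)
    · refine h.t_notin ?_
      have e2 : t = n * t * n⁻¹ := by
        calc t = n * (n⁻¹ * t * n) * n⁻¹ := by group
          _ = n * t * n⁻¹ := by rw [e1]
      have e3 := ha.2.1
      rwa [← e', ← e2] at e3

theorem core_comm_wcl {d w : G} (hd : d ∈ core t S) (hw : w ∈ wcl t) : d * w = w * d := by
  obtain ⟨h1, h2⟩ := mem_inf.1 (h.core_le_ker hd)
  rcases h.split hw with hw' | hw'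
  · exact (mem_centralizer_iff.1 h2 w hw').symm
  · have e1 : Commute d t := mem_centralizer_singleton_iff.1 h1
    have e2 : Commute d (t * w) := (mem_centralizer_iff.1 h2 _ hw').symm
    have := e1.mul_right e2
    rwa [← mul_assoc, h.tt, one_mul] at this

theorem centralizer_decomp {c : G} (hc : c ∈ centralizer ({t} : Set G)) :
    ∃ d ∈ core t S, ∃ w ∈ wcl t, c = d * w := by
  obtain ⟨e, he, k, hk, rfl⟩ := h.centralizer_split hc
  obtain ⟨v, hv, hd⟩ := h.cv_decomp (h.ker_le_cv hk)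
  refine ⟨k * v, hd, e * v⁻¹, mul_mem (h.alt_le he) (inv_mem hv.2), ?_⟩
  calc e * k = e * (k * v) * v⁻¹ := by group
    _ = k * v * e * v⁻¹ := by rw [(h.core_comm_wcl hd (h.alt_le he)).symm]
    _ = k * v * (e * v⁻¹) := by group

theorem core_inf_wcl {d : G} (hd : d ∈ core t S) (hw : d ∈ wcl t) : d = 1 := by
  have hk := h.core_le_ker hd
  rcases h.split hw with h' | h'
  · exact h.eq_one_of_ker_alt h' hk
  · have := h.eq_one_of_ker_alt h' (mul_mem h.t_mem_ker hk)
    have e : d = t := by rw [← inv_eq_of_mul_eq_one_right this, inv_eq_of_mul_eq_one_right h.tt]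
    exact h.vee_core (e ▸ h.t_mem_V) hd

theorem conj_mem_core_C {c d : G} (hc : c ∈ centralizer ({t} : Set G)) (hd : d ∈ core t S) :
    c * d * c⁻¹ ∈ core t S := by
  obtain ⟨d', hd', w, hw, rfl⟩ := h.centralizer_decomp hc
  have e : d' * w * d * (d' * w)⁻¹ = d' * d * d'⁻¹ := by
    rw [mul_assoc d' w d, (h.core_comm_wcl hd hw).symm]; group
  rw [e]
  exact mul_mem (mul_mem hd' hd) (inv_mem hd')

theorem S_decomp {s : G} (hs : s ∈ (S : Subgroup G)) :
    ∃ v ∈ vee t S, s * v ∈ core t S ∧ s * v ∈ (S : Subgroup G) := by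
  obtain ⟨v, hv, hd⟩ := h.cv_decomp (h.S_le_cv hs)
  exact ⟨v, hv, hd, mul_mem hs hv.1⟩

/-- Conjugates of `t` in the Sylow subgroup lie in the piece. -/
theorem mem_vee_of {x : G} (hx : x ∈ (S : Subgroup G)) (hc : IsConj t x) : x ∈ vee t S :=
  mem_inf.2 ⟨hx, mem_wcl_of hc (mem_centralizer_singleton_iff.1 (h.Sc hx))⟩

theorem vee_closed : Cfsg.IsStronglyClosed (vee t S) (S : Subgroup G) := by
  refine ⟨inf_le_left, fun x hx g hg => ?_⟩
  by_cases hx1 : x = 1
  · rw [hx1, mul_one, mul_inv_cancel]; exact one_mem _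
  · exact h.mem_vee_of hg ((h.all_conj hx hx1).trans (isConj_iff.2 ⟨g, rfl⟩))

theorem core_closed : Cfsg.IsStronglyClosed ((S : Subgroup G) ⊓ core t S) (S : Subgroup G) := by
  haveI : Fact (Nat.Prime 2) := ⟨Nat.prime_two⟩
  refine ⟨inf_le_left, fun d hd g hg => mem_inf.2 ⟨hg, ?_⟩⟩
  set d' := g * d * g⁻¹ with hd'
  set Cd := centralizer ({d'} : Set G)
  have hV : vee t S ≤ Cd := fun v hv => mem_centralizer_singleton_iff.2
    (mem_centralizer_iff.1 (h.S_le_cv hg) v hv)
  let Q := (vee t S).map (MulAut.conj g).toMonoidHom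
  have hQ : Q ≤ Cd := by
    rintro _ ⟨v, hv, rfl⟩
    refine mem_centralizer_singleton_iff.2 ?_
    have := mem_centralizer_iff.1 (h.core_le_cv hd.2) v hv
    simp only [MulEquiv.coe_toMonoidHom, MulAut.conj_apply, hd']
    calc g * v * g⁻¹ * (g * d * g⁻¹) = g * (v * d) * g⁻¹ := by group
      _ = g * (d * v) * g⁻¹ := by rw [this]
      _ = g * d * g⁻¹ * (g * v * g⁻¹) := by group
  have hU : IsPGroup 2 ((vee t S).subgroupOf Cd) :=
    (IsPGroup.to_le S.2 inf_le_left).comap_of_injective _ Cd.subtype_injective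
  obtain ⟨R, hR⟩ := hU.exists_le_sylow
  obtain ⟨u, hu⟩ := CfsgLib.Involution.Basic.exists_conj_le R (Q := Q.subgroupOf Cd)
    (((IsPGroup.to_le S.2 inf_le_left).map _).comap_of_injective _ Cd.subtype_injective)
  obtain ⟨k, hk⟩ := CfsgLib.Involution.Basic.exists_conj_le S (Q := (R : Subgroup Cd).map Cd.subtype) (R.2.map _)
  -- the piece is the only conjugate of itself in `R`
  have hkk : ∀ v ∈ vee t S, k * v * k⁻¹ ∈ vee t S := by
    intro v hv
    have hm := hk v ⟨⟨v, hV hv⟩, hR (mem_subgroupOf.2 hv), rfl⟩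
    by_cases hv1 : v = 1
    · rw [hv1, mul_one, mul_inv_cancel]; exact one_mem _
    · exact h.mem_vee_of hm ((h.all_conj hv hv1).trans (isConj_iff.2 ⟨k, rfl⟩))
  have hkN : k ∈ normalizer (vee t S : Set G) := mem_normalizer_of hkk
  have hall : (u : G) * g ∈ normalizer (vee t S : Set G) := by
    refine mem_normalizer_of fun v hv => ?_
    by_cases hv1 : v = 1
    · rw [hv1, mul_one, mul_inv_cancel]; exact one_mem _
    have hvQ : g * v * g⁻¹ ∈ Q := ⟨v, hv, rfl⟩
    have hm := hk _ ⟨_, hu ⟨_, hQ hvQ⟩ (mem_subgroupOf.2 hvQ), rfl⟩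
    have h1 : k * ((u : G) * (g * v * g⁻¹) * (u : G)⁻¹) * k⁻¹ ∈ vee t S :=
      h.mem_vee_of hm ((h.all_conj hv hv1).trans ((isConj_iff.2 ⟨g, rfl⟩).trans
        ((isConj_iff.2 ⟨(u : G), rfl⟩).trans (isConj_iff.2 ⟨k, rfl⟩))))
    have h2 := h.conj_inv_mem_vee hkN h1
    convert h2 using 1
    group
  have h3 : (u : G) * d' = d' * (u : G) := mem_centralizer_singleton_iff.1 u.2
  have h4 := h.conj_mem_core hall hd.2
  rwa [show (u : G) * g * d * ((u : G) * g)⁻¹ = (u : G) * d' * (u : G)⁻¹ by rw [hd']; group,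
    conj_fix h3] at h4

theorem t_comm_core_odd {o : G} (ho : o ∈ Cfsg.oddCore G) : o * t = t * o := by
  haveI := CfsgLib.Involution.ZStar.oddCore_normal (G := G)
  set O := Cfsg.oddCore G
  have hOodd : Odd (Nat.card O) := CfsgLib.Involution.ZStar.odd_card_oddCore
  -- the centraliser of `t` in `O` centralises the piece
  have hfix : ∀ c ∈ O, c * t = t * c → c ∈ centralizer (vee t S : Set G) := by
    intro c hc hct
    refine mem_centralizer_iff.2 fun v hv => ?_
    have h1 : c * v * c⁻¹ * v⁻¹ = 1 := by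
      refine h.eq_one_of_odd hOodd ?_ (mul_mem (h.normalises (mem_centralizer_singleton_iff.2 hct) hv.2) (inv_mem hv.2))
      rw [show c * v * c⁻¹ * v⁻¹ = c * (v * c⁻¹ * v⁻¹) by group]
      exact mul_mem hc ((inferInstance : O.Normal).conj_mem _ (inv_mem hc) v)
    have h2 := mul_inv_eq_one.1 h1
    calc v * c = c * v * c⁻¹ * c := by rw [h2]
      _ = c * v := by group
  have hall : ∀ v ∈ vee t S, v ≠ 1 → ∀ c ∈ O, Commute c v → c ∈ centralizer (vee t S : Set G) := by
    intro v hv hv1 c hc hcv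
    obtain ⟨n, hn, rfl⟩ := h.exists_norm hv (h.all_conj hv hv1)
    have hc' : n⁻¹ * c * n ∈ O := by
      have := (inferInstance : O.Normal).conj_mem c hc n⁻¹
      rwa [inv_inv] at this
    have := hfix _ hc' (by
      calc n⁻¹ * c * n * t = n⁻¹ * (c * (n * t * n⁻¹)) * n := by group
        _ = n⁻¹ * (n * t * n⁻¹ * c) * n := by rw [hcv.eq]
        _ = t * (n⁻¹ * c * n) := by group)
    refine mem_centralizer_iff.2 fun w hw => ?_
    have h1 := mem_centralizer_iff.1 this _ (h.conj_inv_mem_vee hn hw)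
    calc w * c = n * (n⁻¹ * w * n * (n⁻¹ * c * n)) * n⁻¹ := by group
      _ = n * (n⁻¹ * c * n * (n⁻¹ * w * n)) * n⁻¹ := by rw [h1]
      _ = c * w := by group
  obtain ⟨a, b, ha, hb, hne⟩ := h.exists_four
  have hn : ∀ v ∈ vee t S, ∀ y ∈ O, v * y * v ∈ O := fun v hv y hy => by
    have := (inferInstance : O.Normal).conj_mem y hy v
    rwa [inv_eq_of_mul_eq_one_right (h.sq_V hv)] at this
  obtain ⟨c, hc, u, hu, w, hw, h1, h2, h3, rfl⟩ := CfsgLib.LocalEvenB.ExtremelyClosed.four_split hOodd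
    (h.sq_V ha.1) (h.sq_V hb.1) (h.comm_V ha.1 hb.1) (hn a ha.1) (hn b hb.1) ho
  exact (mem_centralizer_iff.1 (mul_mem (mul_mem (hall a ha.1 ha.2.2 c hc h1) (hall b hb.1 hb.2.2 u hu h2))
    (hall _ (mul_mem ha.1 hb.1) (fun e => hne (by
      rw [← inv_eq_of_mul_eq_one_right e, inv_eq_of_mul_eq_one_right (h.sq_V ha.1)])) w hw h3)) t h.t_mem_V).symm

end Hyp

end CfsgLib.Involution.WeakClosureJ1
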